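import Cfsg.Agent.H41.SDiag_m3
import Cfsg.Agent.H45.UniS.U
import Mathlib
import Cfsg.Agent.S0245
import Cfsg.Agent.LieClassical.SympCenter
import Cfsg.Agent.H231.UniZero_m3
import Cfsg.Agent.H45.Uni.U
import Cfsg.Agent.S0292
import Cfsg.Agent.H202.T.FrameMain_m3
import Cfsg.Agent.S0243
import Cfsg.Agent.H239.TPSp
import Cfsg.Agent.Lib.MinNormalNonabelian
import Cfsg.Agent.H901.TOrthMain_mg
import Cfsg.Agent.H341.ThreeList_m3
import Cfsg.Agent.H202.T.Enum
import Cfsg.Agent.H160.QChar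
import Cfsg.Agent.H411.Six.UpSp6
import Cfsg.Agent.S0246
import Cfsg.Agent.H160.QEnum
import Cfsg.Agent.H390.Cocl
import Cfsg.Agent.H414.SpecFrame_m3
import Cfsg.Agent.H379.P4.TwoElt
import Cfsg.Agent.H377.OddThree_m3
import Cfsg.Agent.FastGrp
import Cfsg.Agent.Prune
set_option linter.all false

section
prune_inst 0x7fffbcf9bbbf27ffffff7e7ff6ddcffffbbcbfffefdff9cbffe863ffaf7f6b92c9c56b8d0fe9b1fe0ed6e01410f87b93f8feceffe36bdc7ffffd5ff41ffbff9fedf7b50911d5883e0f7c6fff83f07f8e7f3fffffffffffffffffffffffffffbeffbfffffffff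

-- part: H375/SZ/Two_mg
section

end

-- part: H375/SZ/Main
section
prune_inst 0x43064440480000000000082230000443400010200630000694000080900016389402f000420171280e6aa103804c07013000100420000000a00860040040120848f4602a3580108200001808804000000000000000000000000000000000000000000000
set_option linter.all false
open scoped Cfsg.Agent.FastGrp

/-!
# Theorem (U) for `Sp_{2m}(p)`, `m` even, `p` odd (helper375)

`F` of prime order `p ≠ 2`, `m` even: every `p'`-element of `Sp_{2m}(p)` fixes a nonzero vector of every nonzero finite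
module in characteristic `p` on which `-1` acts trivially.
-/

set_option autoImplicit false

namespace Cfsg.Agent.H375.SZ

open Cfsg.Agent.H45.Uni Cfsg.Agent.H45.UniS Cfsg.Agent.H168.Uni.Sp

universe u v

/-- (D) for all odd `p`, `m` even -/
theorem sZero {m p : ℕ} [Fact p.Prime] (hp2 : p ≠ 2) (hm : Even m) {k : Type*} [Field k] [CharP k p] [Infinite k] :
    SZero p m k := by
  intro n hn he
  obtain ⟨r, hr⟩ := hm
  rcases r with _ | r
  · obtain rfl : m = 0 := by omega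
    refine ⟨1, 1, {0}, fun _ => 1, Finset.mem_singleton_self _, one_ne_zero, ?_⟩
    intro t
    simp [cs]
  · obtain rfl : m = 2 * r + 2 := by omega
    obtain ⟨u, u', v, v', c, hu, hv, hc, hZ⟩ := Zs_even (k := k) (p := p) hp2 r n hn 0 (Or.inl rfl) (by
        rw [zero_add]
        exact_mod_cast even_AA n he)
    apply sZero_of_HasZ n hu hv hc
    convert hZ using 1
    funext t
    simp

/-- **Theorem (U)** for `PSp_{2m}(p)`, `m` even, `p` odd -/
theorem fixAll {p : ℕ} [hp : Fact p.Prime] (hp2 : p ≠ 2) {m : ℕ} (hm : Even m) {F : Type v} [Field F] [Fintype F]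
    (hF : Fintype.card F = p) (x : Cfsg.PSp m F)
    (hx : (orderOf x).Coprime p) : H425.KFix.FixAll.{u} p x := by
  have hcF : CharP F p := charP_of_card hp.out hF
  have hck : CharP (AlgebraicClosure F) p :=
    charP_of_injective_algebraMap (algebraMap F (AlgebraicClosure F)).injective p
  have hp3 : 2 < p := lt_of_le_of_ne hp.out.two_le (Ne.symm hp2)
  have h2 : (2 : F) ≠ 0 := by
    intro h
    have h1 : ((2 : ℕ) : F) = 0 := by exact_mod_cast h
    rw [CharP.cast_eq_zero_iff F p] at h1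
    exact Nat.not_dvd_of_pos_of_lt (by norm_num) hp3 h1
  exact fixAll_PSp_of (p := p) hp3 hF (sZero hp2 hm) H421.UniS.sPgrp
    (fun W _ _ => H421.UniS.sWt (p := p) (hp.out.odd_of_ne_two hp2)) (fun W _ _ => H421.UniS.sNeg h2) x hx

end Cfsg.Agent.H375.SZ
end

-- part: H375/SZ/FixedPsp
section
prune_inst 0x1044400580000000000090010000403400010000230001018001080800c1420042070124a0160000c8a28058000070130000c0421000000a00040000040000808a460022500d08100001800000000000000000000000000000000000000004000000000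
set_option linter.all false
open scoped Cfsg.Agent.FastGrp

/-!
# S3536: own characteristic for `PSp_{2n}(q)`, `n = 2 ^ k` (helper375)
-/

set_option autoImplicit false

namespace Cfsg.Agent.H375.SZ

open Matrix Cfsg.Agent.H45.UniS Cfsg.Agent.LieClassical.SympCenter

universe u v

section map

variable {m : ℕ} {F K : Type*} [Field F] [Field K]

theorem map_mem_sp (f : F →+* K) {A : Matrix (Fin m ⊕ Fin m) (Fin m ⊕ Fin m) F} (hA : A ∈ symplecticGroup (Fin m) F) :
    f.mapMatrix A ∈ symplecticGroup (Fin m) K := by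
  rw [SymplecticGroup.mem_iff] at hA ⊢
  have hJ : f.mapMatrix (J (Fin m) F) = J (Fin m) K := by
    ext i j
    rcases i with i | i <;> rcases j with j | j <;> simp [J, Matrix.one_apply, apply_ite f]
  have h := congrArg f.mapMatrix hA
  rw [map_mul, map_mul, hJ] at h
  exact h

/-- extension of scalars -/
def spMap (m : ℕ) (f : F →+* K) : SG m F →* SG m K where
  toFun A := ⟨f.mapMatrix A.1, map_mem_sp f A.2⟩
  map_one' := Subtype.ext (map_one f.mapMatrix)
  map_mul' A B := Subtype.ext (map_mul f.mapMatrix A.1 B.1)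

theorem spMap_center (f : F →+* K) :
    Subgroup.center (symplecticGroup (Fin m) F) ≤ (Subgroup.center (symplecticGroup (Fin m) K)).comap (spMap m f) := by
  intro A hA
  rw [Subgroup.mem_comap, mem_center_iff]
  obtain ⟨a, ha⟩ := (mem_center_iff m A).1 hA
  refine ⟨f a, ?_⟩
  change f.mapMatrix A.1 = _
  rw [ha]
  ext i j
  simp [Matrix.one_apply, apply_ite f]

/-- extension of scalars -/
def pspMap (m : ℕ) (f : F →+* K) : Cfsg.PSp m F →* Cfsg.PSp m K :=
  QuotientGroup.map _ _ (spMap m f) (spMap_center f)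

theorem pspMap_injective (f : F →+* K) : Function.Injective (pspMap m f) := by
  rw [injective_iff_map_eq_one]
  intro x hx
  obtain ⟨A, rfl⟩ := QuotientGroup.mk_surjective x
  have h1 : spMap m f A ∈ Subgroup.center (symplecticGroup (Fin m) K) := (QuotientGroup.eq_one_iff _).1 hx
  refine (QuotientGroup.eq_one_iff _).2 ?_
  rw [Subgroup.mem_center_iff]
  intro B
  have h2 := (Subgroup.mem_center_iff.1 h1) (spMap m f B)
  rw [← map_mul, ← map_mul] at h2
  have hinj : Function.Injective (spMap m f) := by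
    intro X Y hXY
    apply Subtype.ext
    have h3 := congrArg Subtype.val hXY
    ext i j
    exact f.injective (congrFun (congrFun h3 i) j)
  exact hinj h2

end map

/-- elements of odd prime order of `PSp_{2m}(p)` -/
theorem exists_psp {m : ℕ} (hm : 1 ≤ m) {F : Type*} [Field F] [Fintype F] {r : ℕ} (hr : r.Prime) (hr2 : r ≠ 2)
    (hrd : r ∣ Nat.card (symplecticGroup (Fin m) F)) : ∃ x : Cfsg.PSp m F, orderOf x = r := by
  have := finite_SG (m := m) (F := F)
  have : Fact r.Prime := ⟨hr⟩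
  obtain ⟨y, hy⟩ := exists_prime_orderOf_dvd_card' r hrd
  refine ⟨QuotientGroup.mk y, ?_⟩
  have h1 : orderOf (QuotientGroup.mk y : Cfsg.PSp m F) ∣ r := by
    rw [← hy]
    exact orderOf_map_dvd (QuotientGroup.mk' _) y
  rcases (Nat.dvd_prime hr).1 h1 with h | h
  · rw [orderOf_eq_one_iff] at h
    obtain ⟨a, ha⟩ := (mem_center_iff m y).1 ((QuotientGroup.eq_one_iff _).1 h)
    have h2 : a * a = 1 := sq_eq_one_of_smul_mem hm (ha ▸ y.2)
    have h3 : y ^ 2 = 1 := by
      apply Subtype.ext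
      change y.1 ^ 2 = 1
      rw [ha, pow_two, smul_mul_smul_comm, h2, one_mul, one_smul]
    have h4 := orderOf_dvd_of_pow_eq_one h3
    rw [hy] at h4
    exact absurd ((Nat.prime_dvd_prime_iff_eq hr Nat.prime_two).1 h4) hr2
  · exact h

theorem dvd_card {m p : ℕ} (hm : 1 ≤ m) {r : ℕ} (hrm : r ∣ p ^ m + 1) (hpp : p.Prime)
    {F : Type*} [Field F] [Fintype F] (hF : Fintype.card F = p) : r ∣ Nat.card (symplecticGroup (Fin m) F) := by
  rw [S0245.result hF m]
  apply Dvd.dvd.mul_left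
  have h1 : r ∣ p ^ (2 * m) - 1 := by
    have h2 : p ^ (2 * m) - 1 = (p ^ m - 1) * (p ^ m + 1) := by
      obtain ⟨c, hc⟩ := Nat.exists_eq_add_of_le (Nat.one_le_pow m p hpp.pos)
      rw [mul_comm 2 m, pow_mul, hc]
      have : (1 + c) ^ 2 = c * (1 + c + 1) + 1 := by ring
      rw [this, Nat.add_sub_cancel, Nat.add_sub_cancel_left]
    rw [h2]
    exact hrm.mul_left _
  refine h1.trans ?_
  have h4 := Finset.dvd_prod_of_mem (fun i => p ^ (2 * (i + 1)) - 1) (Finset.mem_range.2 (show m - 1 < m by omega))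
  have h5 : m - 1 + 1 = m := by omega
  simpa only [h5] using h4

/-- `(p ^ n + 1) / 2` has an odd prime divisor for even `n`. -/
theorem exists_r {p k : ℕ} (hpp : p.Prime) (hp2 : p ≠ 2) (hk : 1 ≤ k) : ∃ r : ℕ, r.Prime ∧ r ≠ 2 ∧ r ∣ p ^ 2 ^ k + 1 := by
  have hodd := hpp.odd_of_ne_two hp2
  obtain ⟨j, rfl⟩ : ∃ j, k = j + 1 := ⟨k - 1, by omega⟩
  have h1 : Odd (p ^ 2 ^ j) := hodd.pow
  obtain ⟨c, hc⟩ := h1
  have hp3 : 3 ≤ p := by have := hpp.two_le; omega
  have h2 : p ^ 2 ^ (j + 1) + 1 = 2 * (2 * (c * (c + 1)) + 1) := by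
    rw [pow_succ, pow_mul, hc]
    ring
  have hc0 : 1 ≤ c := by
    have : 2 < p ^ 2 ^ j := lt_of_lt_of_le hp3 (Nat.le_self_pow (by positivity) p)
    omega
  have h3 : 2 * (c * (c + 1)) + 1 ≠ 1 := by
    have : 0 < c * (c + 1) := by positivity
    omega
  obtain ⟨r, hr, hrd⟩ := Nat.exists_prime_and_dvd h3
  refine ⟨r, hr, ?_, ?_⟩
  · rintro rfl
    omega
  · rw [h2]
    exact hrd.mul_left _

/-- images in `PSp m F`, `char F = p`, of the elements of `PSp m (ZMod p)` of order prime to `p` fix a nonzero vector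
of every module in characteristic `p` -/
theorem fixAll_sub {p : ℕ} [hp : Fact p.Prime] (hp2 : p ≠ 2) {m : ℕ} (hm : Even m) {F : Type v} [Field F] [CharP F p]
    (x : Cfsg.PSp m (ZMod p)) (hx : (orderOf x).Coprime p) :
    H425.KFix.FixAll.{u} p (pspMap m (ZMod.castHom (dvd_refl p) F) x) :=
  (fixAll hp2 hm (ZMod.card p) x hx).map _

/-- **S3536, the own-characteristic step for `PSp_{2n}(q)`, `n = 2 ^ k`.** -/
theorem fixed_psp {F : Type*} [Field F] [Fintype F] {p a k : ℕ} (hp : p.Prime) (hp2 : p ≠ 2) (ha : Odd a)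
    (hF : Fintype.card F = p ^ a) (hk : 1 ≤ k) {W : Type*} [CommGroup W] [Finite W] [Nontrivial W]
    (hW : ∀ w : W, w ^ p = 1) (φ : Cfsg.PSp (2 ^ k) F →* MulAut W) :
    ∃ (r : ℕ) (x : Cfsg.PSp (2 ^ k) F) (w : W), r.Prime ∧ r ≠ 2 ∧ r ∣ p ^ 2 ^ k + 1 ∧
      orderOf x = r ∧ w ≠ 1 ∧ φ x w = w := by
  have : Fact p.Prime := ⟨hp⟩
  have hcF : CharP F p := by
    obtain ⟨q, hq⟩ := CharP.exists F
    obtain ⟨n, hqp, hn⟩ := FiniteField.card F q
    rw [hF] at hn
    have : q = p := by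
      have h1 : q ∣ p ^ a := by rw [hn]; exact dvd_pow_self q n.ne_zero
      exact (Nat.prime_dvd_prime_iff_eq hqp hp).1 (hqp.dvd_of_dvd_pow h1)
    rwa [this] at hq
  obtain ⟨r, hr, hr2, hrd⟩ := exists_r (k := k) hp hp2 hk
  have h1 := dvd_card (m := 2 ^ k) Nat.one_le_two_pow hrd hp (ZMod.card p)
  obtain ⟨y, hy⟩ := exists_psp (m := 2 ^ k) (F := ZMod p) Nat.one_le_two_pow hr hr2 h1
  have hrp : r ≠ p := by
    rintro rfl
    have h3 : r ∣ r ^ 2 ^ k := dvd_pow_self r (by positivity)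
    have h4 := (Nat.dvd_add_right h3).1 hrd
    exact hr.one_lt.ne' (Nat.dvd_one.1 h4)
  have hU := fixAll_sub (p := p) (F := F) hp2 (m := 2 ^ k) ((Nat.even_pow.2 ⟨even_two, by omega⟩)) y
    (by rw [hy]; exact (Nat.coprime_primes hr hp).2 hrp)
  obtain ⟨w, hw1, hw⟩ := hU.mul hW φ
  exact ⟨r, _, w, hr, hr2, hrd, by rw [orderOf_injective _ (pspMap_injective _), hy], hw1, hw⟩

end Cfsg.Agent.H375.SZ
end

-- part: H231/UniOm
section
prune_inst 0x43044400980000000000092030000441400000000030001498001080800c0628902260124a01200808080805000007013000000421000000a000400400400008083460223700d08100001800800000000000000000000000000000000000000000000000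
set_option linter.all false
open scoped Cfsg.Agent.FastGrp

/-!
# Theorem (U) for all odd primes, and fixed points of elements of order `r ∣ p ^ n + 1` (helper231)

* `fixAll`, `fixAll_proj` : `2 ≤ m`, `p` any odd prime, `card F = p`: every element of order prime to `p` of
  `Ω_{2m+1}(p)` and `PΩ_{2m+1}(p)` fixes a nonzero vector of every nonzero finite module in characteristic `p`;
* `fixAll_sub` : the same for `PΩ_{2m+1}(F)`, `char F = p`, and images of elements of `Ω_{2m+1}(p)`;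
* `fixed_omega` : (S3536) for `n = 2 ^ k` there is an element of odd prime order `r ∣ p ^ n + 1` of `PΩ_{2n+1}(F)` with a
  fixed point on every elementary abelian `p`-group.
-/

set_option autoImplicit false

namespace Cfsg.Agent.H231.UniZero

open QuadraticMap Cfsg.Agent.LieClassical Cfsg.Agent.LieClassical.OrthCore Cfsg.Agent.LieClassical.OmegaReindex
  Cfsg.Agent.H45.Uni

universe u v

/-- **Theorem (U)**, all odd primes -/
theorem fixAll {m p : ℕ} (hpp : p.Prime) (hp2 : p ≠ 2) (hm : 2 ≤ m) {F : Type v} [Field F] [Fintype F]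
    (hF : Fintype.card F = p) (x : Cfsg.Omega F (Cfsg.quadFormOdd m F)) (hx : (orderOf x).Coprime p) :
    H425.KFix.FixAll.{u} p x := by
  have : Fact p.Prime := ⟨hpp⟩
  have h3 : 2 < p := by have := hpp.two_le; omega
  have hcF : CharP F p := charP_of_card hpp hF
  have hck : CharP (AlgebraicClosure F) p :=
    charP_of_injective_algebraMap (algebraMap F (AlgebraicClosure F)).injective p
  have h2 : (2 : AlgebraicClosure F) ≠ 0 := H41.StDiag.two_ne_zero_of hpp hp2
  refine fixAll_of h3 hm hF (H41.StDiag.stDiag p hpp hp2 hm)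
    (stZero hpp hp2 ?_) (fun W _ _ => H421.Uni.stWt (p := p) (hpp.odd_of_ne_two hp2)) x hx
  intro g hg
  rcases H41.StDiag.mem_E_or_neg h2 hm hg with h | h
  · exact ⟨g, h, 1, one_ne_zero, fun v => (one_smul _ _).symm⟩
  · refine ⟨_, h, -1, neg_ne_zero.2 one_ne_zero, fun v => ?_⟩
    rw [neg_one_smul]
    rfl

/-! ### Subfields -/

theorem bcl_injective {m : ℕ} {F K : Type*} [Field F] [Field K] [Algebra F K] :
    Function.Injective (bcl m F K) := by
  intro g h hgh
  apply LinearEquiv.ext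
  intro v
  have h1 := bcl_apply (K := K) g v
  rw [hgh, bcl_apply] at h1
  funext j
  exact ((algebraMap F K).injective (congrFun h1 j)).symm

theorem bc_injective {m : ℕ} {F K : Type*} [Field F] [Field K] [Algebra F K] :
    Function.Injective (bc m F K) := by
  intro g h hgh
  exact Subtype.ext (bcl_injective (K := K) (congrArg Subtype.val hgh))

theorem center_odd {m : ℕ} (hm : 2 ≤ m) {F : Type*} [Field F] [Finite F] (h2 : (2 : F) ≠ 0) :
    Subgroup.center (Cfsg.Omega F (Cfsg.quadFormOdd m F)) = ⊥ := by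
  have h3 := OrthCenter.center_omega_eq_bot_of_odd h2 (quadOdd_nondegenerate (F := F) (m := m) h2)
    (by simp only [Fintype.card_sum, Fintype.card_unit, Fintype.card_fin]; omega)
    (by simp only [Fintype.card_sum, Fintype.card_unit, Fintype.card_fin]; exact ⟨m, by omega⟩)
    (quadOdd_isotropic (by omega))
  rwa [coe_quadOdd] at h3

/-- The subgroup `Ω_{2m+1}(p)` of `PΩ_{2m+1}(F)`. -/
theorem exists_hom {m p : ℕ} [hfp : Fact p.Prime] (hp2 : p ≠ 2) (hm : 2 ≤ m) {F : Type*} [Field F] [Fintype F]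
    [CharP F p] :
    ∃ f : Cfsg.Omega (ZMod p) (Cfsg.quadFormOdd m (ZMod p)) →* Cfsg.POmega F (Cfsg.quadFormOdd m F),
      Function.Injective f := by
  have hpp : p.Prime := hfp.out
  let _ : Algebra (ZMod p) F := ZMod.algebra F p
  have h2F : (2 : F) ≠ 0 := H41.StDiag.two_ne_zero_of hpp hp2
  have h2Z : (2 : ZMod p) ≠ 0 := H41.StDiag.two_ne_zero_of hpp hp2
  obtain ⟨e⟩ := exists_equiv (m := m) (F := F) hm h2F
  obtain ⟨e'⟩ := exists_equiv (m := m) (F := ZMod p) hm h2Z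
  refine ⟨(QuotientGroup.mk' (Subgroup.center (Cfsg.Omega F (Cfsg.quadFormOdd m F)))).comp
    (e.symm.toMonoidHom.comp ((bc m (ZMod p) F).comp e'.toMonoidHom)), ?_⟩
  rw [injective_iff_map_eq_one]
  intro x hx
  have h1 : e.symm (bc m (ZMod p) F (e' x)) ∈ Subgroup.center (Cfsg.Omega F (Cfsg.quadFormOdd m F)) :=
    (QuotientGroup.eq_one_iff _).1 hx
  rw [center_odd hm h2F, Subgroup.mem_bot] at h1
  have h4 : bc m (ZMod p) F (e' x) = 1 := by
    rw [← e.symm.map_one] at h1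
    exact e.symm.injective h1
  have h5 : e' x = 1 := bc_injective (by rw [h4, map_one])
  rw [← e'.map_one] at h5
  exact e'.injective h5

/-- Odd primes dividing `p ^ m + 1` divide the order of `Ω_{2m+1}(p)`. -/
theorem dvd_card {m p : ℕ} (hpp : p.Prime) (hp2 : p ≠ 2) (hm : 3 ≤ m) {r : ℕ} (hr : r.Prime) (hr2 : r ≠ 2)
    (hrm : r ∣ p ^ m + 1) {F : Type*} [Field F] [Fintype F] (hF : Fintype.card F = p) :
    r ∣ Nat.card (Cfsg.Omega F (Cfsg.quadFormOdd m F)) := by
  have hodd := hpp.odd_of_ne_two hp2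
  have hS := Cfsg.Agent.S0292.result hF hodd m hm
  have h1 : r ∣ p ^ (2 * m) - 1 := by
    have h2 : p ^ (2 * m) - 1 = (p ^ m - 1) * (p ^ m + 1) := by
      obtain ⟨c, hc⟩ := Nat.exists_eq_add_of_le (Nat.one_le_pow m p hpp.pos)
      rw [mul_comm 2 m, pow_mul, hc]
      have : (1 + c) ^ 2 = c * (1 + c + 1) + 1 := by ring
      rw [this, Nat.add_sub_cancel, Nat.add_sub_cancel_left]
    rw [h2]
    exact hrm.mul_left _
  have h3 : r ∣ 2 * Nat.card (Cfsg.POmega F (Cfsg.quadFormOdd m F)) := by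
    rw [hS]
    apply Dvd.dvd.mul_left
    refine h1.trans ?_
    have h4 := Finset.dvd_prod_of_mem (fun i => p ^ (2 * (i + 1)) - 1) (Finset.mem_range.2 (show m - 1 < m by omega))
    have h5 : m - 1 + 1 = m := by omega
    simpa only [h5] using h4
  have h4 : r ∣ Nat.card (Cfsg.POmega F (Cfsg.quadFormOdd m F)) := by
    rcases (hr.dvd_mul).1 h3 with h | h
    · exact absurd ((Nat.prime_dvd_prime_iff_eq hr Nat.prime_two).1 h) hr2
    · exact h
  exact h4.trans (Subgroup.card_quotient_dvd_card _)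

/-- `(p ^ n + 1) / 2` has an odd prime divisor for even `n`. -/
theorem exists_r {p k : ℕ} (hpp : p.Prime) (hp2 : p ≠ 2) (hk : 1 ≤ k) : ∃ r : ℕ, r.Prime ∧ r ≠ 2 ∧ r ∣ p ^ 2 ^ k + 1 := by
  have hodd := hpp.odd_of_ne_two hp2
  obtain ⟨j, rfl⟩ : ∃ j, k = j + 1 := ⟨k - 1, by omega⟩
  have h1 : Odd (p ^ 2 ^ j) := hodd.pow
  obtain ⟨c, hc⟩ := h1
  have hp3 : 3 ≤ p := by have := hpp.two_le; omega
  have h2 : p ^ 2 ^ (j + 1) + 1 = 2 * (2 * (c * (c + 1)) + 1) := by
    rw [pow_succ, pow_mul, hc]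
    ring
  have hc0 : 1 ≤ c := by
    have : 2 < p ^ 2 ^ j := lt_of_lt_of_le hp3 (Nat.le_self_pow (by positivity) p)
    omega
  have h3 : 2 * (c * (c + 1)) + 1 ≠ 1 := by
    have : 0 < c * (c + 1) := by positivity
    omega
  obtain ⟨r, hr, hrd⟩ := Nat.exists_prime_and_dvd h3
  refine ⟨r, hr, ?_, ?_⟩
  · rintro rfl
    omega
  · rw [h2]
    exact hrd.mul_left _

/-- **S3536, the own-characteristic step for `Ω_{2n+1}`, `n = 2 ^ k`.** -/
theorem fixed_omega {F : Type*} [Field F] [Fintype F] {p a k : ℕ} (hp : p.Prime) (hp2 : p ≠ 2) (ha : Odd a)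
    (hF : Fintype.card F = p ^ a) (hk : 2 ≤ k) {W : Type*} [CommGroup W] [Finite W] [Nontrivial W]
    (hW : ∀ w : W, w ^ p = 1) (φ : Cfsg.POmega F (Cfsg.quadFormOdd (2 ^ k) F) →* MulAut W) :
    ∃ (r : ℕ) (x : Cfsg.POmega F (Cfsg.quadFormOdd (2 ^ k) F)) (w : W), r.Prime ∧ r ≠ 2 ∧ r ∣ p ^ 2 ^ k + 1 ∧
      orderOf x = r ∧ w ≠ 1 ∧ φ x w = w := by
  have : Fact p.Prime := ⟨hp⟩
  have hcF : CharP F p := by
    obtain ⟨q, hq⟩ := CharP.exists F
    obtain ⟨n, hqp, hn⟩ := FiniteField.card F q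
    rw [hF] at hn
    have : q = p := by
      have h1 : q ∣ p ^ a := by rw [hn]; exact dvd_pow_self q n.ne_zero
      exact (Nat.prime_dvd_prime_iff_eq hqp hp).1 (hqp.dvd_of_dvd_pow h1)
    rwa [this] at hq
  have hm : 4 ≤ 2 ^ k := by
    calc 4 = 2 ^ 2 := rfl
      _ ≤ 2 ^ k := Nat.pow_le_pow_right two_pos hk
  obtain ⟨r, hr, hr2, hrd⟩ := exists_r (k := k) hp hp2 (by omega)
  have hcard : Fintype.card (ZMod p) = p := ZMod.card p
  have h1 := dvd_card hp hp2 (by omega) hr hr2 hrd hcard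
  have : Fact r.Prime := ⟨hr⟩
  have : Finite (Cfsg.Omega (ZMod p) (Cfsg.quadFormOdd (2 ^ k) (ZMod p))) := inferInstance
  obtain ⟨y, hy⟩ := exists_prime_orderOf_dvd_card' r h1
  obtain ⟨f, hf⟩ := exists_hom (p := p) (m := 2 ^ k) hp2 (by omega) (F := F)
  have hrp : r ≠ p := by
    rintro rfl
    have h3 : r ∣ r ^ 2 ^ k := dvd_pow_self r (by positivity)
    have h4 := (Nat.dvd_add_right h3).1 hrd
    exact hr.one_lt.ne' (Nat.dvd_one.1 h4)
  have hU := fixAll hp hp2 (by omega) hcard y (by rw [hy]; exact (Nat.coprime_primes hr hp).2 hrp)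
  obtain ⟨w, hw1, hw⟩ := (hU.map f).mul hW φ
  exact ⟨r, f y, w, hr, hr2, hrd, by rw [orderOf_injective f hf, hy], hw1, hw⟩

end Cfsg.Agent.H231.UniZero
end

-- part: H202/TP/Frame
section
prune_inst 0x43060440d8000000000009201000044240001000023000149c005080900c3230902270024801602112a22a040040070130000c902100000000006004004012080ab6482a33c0c08300007801804000000000000000000000000000000000004000000000
set_option linter.all false
open scoped Cfsg.Agent.FastGrp

-- part: H202/TP/NoL2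
section
/-!
# Block TP (S3536): a coclique of four primes `> 7` excludes `S ≅ A₇`, `L₂(u)` (helper202)
-/

set_option autoImplicit false
set_option linter.unusedSectionVars false
set_option linter.unusedVariables false

namespace Cfsg.Agent.H202.TP

open Cfsg.Agent.H420.QR Cfsg.Agent.H104.TSp Subgroup Cfsg.Agent.H202.T

universe u

variable {G : Type u} [Group G] [Finite G] {K : Subgroup G} [K.Normal] {S : Subgroup (G ⧸ K)} [S.Normal]

/-- the order of `PSL_2(u)`, `u` odd -/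
theorem psl2_card {F : Type} [Field F] [Fintype F] (hF : Odd (Fintype.card F)) :
    2 * Nat.card (Matrix.ProjectiveSpecialLinearGroup (Fin 2) F) =
      Fintype.card F * (Fintype.card F ^ 2 - 1) := by
  have h := S0243.result (F := F) rfl 2 le_rfl
  have h1 : 1 < Fintype.card F := Fintype.one_lt_card
  set q := Fintype.card F with hq
  have hg2 : Nat.gcd 2 (q - 1) = 2 := by
    apply Nat.gcd_eq_left
    obtain ⟨c, hc⟩ := hF
    exact ⟨c, by omega⟩
  simp only [Fin.prod_univ_two, Fin.val_zero, Fin.val_one, pow_zero, pow_one] at h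
  rw [hg2] at h
  have e : q ^ 2 - q = (q - 1) * q := by rw [pow_two, Nat.sub_one_mul]
  rw [e] at h
  have h3 : (q - 1) * (2 * Nat.card (Matrix.ProjectiveSpecialLinearGroup (Fin 2) F)) =
      (q - 1) * (q * (q ^ 2 - 1)) := by
    calc (q - 1) * (2 * Nat.card (Matrix.ProjectiveSpecialLinearGroup (Fin 2) F)) = _ := by ring
      _ = (q ^ 2 - 1) * ((q - 1) * q) := h
      _ = (q - 1) * (q * (q ^ 2 - 1)) := by ring
  exact Nat.eq_of_mul_eq_mul_left (by omega) h3

/-- a `c`-element normalizing a Sylow `v`-subgroup, `c ∤ |V| - 1`, commutes with an element of order `v` -/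
theorem exists_commute {X : Type*} [Group X] [Finite X] {c v : ℕ} (hc : c.Prime) (hv : v.Prime) (hcv : c ≠ v)
    (V : Subgroup X) (hV : IsPGroup v ↥V) (hcV : ¬ c ∣ Nat.card ↥V - 1) {x : X}
    (hx : x ∈ normalizer (V : Set X)) (hxc : orderOf x = c) : ∃ y : X, orderOf y = v * c := by
  classical
  have hc' := Fact.mk hc
  have hv' := Fact.mk hv
  have hZ : ∀ g ∈ zpowers x, g ∈ normalizer (V : Set X) := fun g hg => (zpowers_le.2 hx) hg
  let act : MulAction ↥(zpowers x) ↥V :=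
    { smul := fun g y => ⟨(g : X) * y * (g : X)⁻¹, ((mem_normalizer_iff.1 (hZ g g.2)) y).1 y.2⟩
      one_smul := fun y => Subtype.ext (by change (1 : X) * y * (1 : X)⁻¹ = y; simp)
      mul_smul := fun g h y => Subtype.ext (by
        change ((g : X) * h) * y * ((g : X) * h)⁻¹ = (g : X) * ((h : X) * y * (h : X)⁻¹) * (g : X)⁻¹
        group) }
  have hP : IsPGroup c ↥(zpowers x) := by
    apply IsPGroup.of_card (n := 1)
    rw [Nat.card_zpowers, hxc, pow_one]
  have hmod := hP.card_modEq_card_fixedPoints (α := ↥V)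
  by_contra hcon
  have hfix : MulAction.fixedPoints ↥(zpowers x) ↥V = {1} := by
    ext y
    rw [Set.mem_singleton_iff]
    constructor
    · intro hy
      by_contra hy1
      apply hcon
      have h1 : x * y * x⁻¹ = y := congrArg Subtype.val (hy ⟨x, mem_zpowers x⟩)
      have hcomm : Commute (y : X) x := by
        have : x * y = y * x := by
          calc x * y = (x * y * x⁻¹) * x := by group
            _ = y * x := by rw [h1]
        exact this.symm
      obtain ⟨j, hj⟩ := IsPGroup.iff_orderOf.1 hV y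
      have hj0 : j ≠ 0 := by
        rintro rfl
        rw [pow_zero, orderOf_eq_one_iff] at hj
        exact hy1 hj
      obtain ⟨i, rfl⟩ : ∃ i, j = i + 1 := ⟨j - 1, by omega⟩
      have h2 : orderOf ((y : X) ^ v ^ i) = v := by
        rw [orderOf_pow_of_dvd (pow_ne_zero _ hv.ne_zero) (by rw [Subgroup.orderOf_coe, hj]; exact pow_dvd_pow _ (by omega)),
          Subgroup.orderOf_coe, hj, pow_succ, Nat.mul_div_cancel_left _ (pow_pos hv.pos i)]
      refine ⟨(y : X) ^ v ^ i * x, ?_⟩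
      rw [(hcomm.pow_left _).orderOf_mul_eq_mul_orderOf_of_coprime
        (by rw [h2, hxc]; exact (Nat.coprime_primes hv hc).2 hcv.symm), h2, hxc]
    · rintro rfl
      intro g
      exact Subtype.ext (by change (g : X) * (1 : X) * (g : X)⁻¹ = 1; group)
  rw [hfix] at hmod
  have h1 : Nat.card ({1} : Set ↥V) = 1 := by simp
  rw [h1] at hmod
  exact hcV ((Nat.modEq_iff_dvd' Nat.card_pos).1 hmod.symm)

/-- **A coclique of four primes greater than 7.** -/
theorem not_altL2 (hR : Red G K S) {ρ : Finset ℕ} (hρ : IsCoq G ρ) (h4 : 4 ≤ ρ.card) (h7 : ∀ r ∈ ρ, 7 < r) :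
    ¬ Cfsg.Agent.H414.Rad.AltL2 ↥S := by
  classical
  intro hA
  obtain ⟨hσ, hcard⟩ := hR.filter hρ (by omega)
  set σ := ρ.filter fun r => r ∣ Nat.card ↥S with hσd
  have hσρ : ∀ r ∈ σ, r ∈ ρ := fun r hr => (Finset.mem_filter.1 hr).1
  have h3 : 2 < σ.card := by omega
  obtain ⟨a, ha, b, hb, c, hc, hab, hac, hbc⟩ := Finset.two_lt_card.1 h3
  rcases hA with ⟨⟨e⟩⟩ | ⟨F, _, _, hFo, ⟨e⟩⟩
  · -- `A₇`
    have hcS : Nat.card ↥S = 2520 := by
      rw [Nat.card_congr e.toEquiv, nat_card_alternatingGroup, Nat.card_eq_fintype_card, Fintype.card_fin]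
      rfl
    have h1 := hσ.dvd a ha
    have h2 := hσ.prime a ha
    have h5 := h7 a (hσρ a ha)
    rw [hcS, show (2520 : ℕ) = 2 ^ 3 * (3 ^ 2 * (5 * 7)) by norm_num] at h1
    rcases h2.dvd_mul.1 h1 with h | h
    · have := (Nat.prime_dvd_prime_iff_eq h2 Nat.prime_two).1 (h2.dvd_of_dvd_pow h)
      omega
    · rcases h2.dvd_mul.1 h with h | h
      · have := (Nat.prime_dvd_prime_iff_eq h2 Nat.prime_three).1 (h2.dvd_of_dvd_pow h)
        omega
      · rcases h2.dvd_mul.1 h with h | h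
        · have := Nat.le_of_dvd (by norm_num) h
          omega
        · have := Nat.le_of_dvd (by norm_num) h
          omega
  · -- `PSL_2(u)`
    obtain ⟨v, hv⟩ := CharP.exists F
    have hvp : v.Prime := CharP.char_is_prime F v
    have hvf := Fact.mk hvp
    have hcS : Nat.card ↥S = Nat.card (Matrix.ProjectiveSpecialLinearGroup (Fin 2) F) := Nat.card_congr e.toEquiv
    have hfin : Finite (Matrix.ProjectiveSpecialLinearGroup (Fin 2) F) := Finite.of_equiv _ e.toEquiv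
    have hcF := psl2_card hFo
    obtain ⟨n, -, hn⟩ := FiniteField.card F v
    have hv2 : v ≠ 2 := by
      rintro rfl
      rw [hn] at hFo
      exact (Nat.not_even_iff_odd.2 hFo) (even_iff_two_dvd.2 (dvd_pow_self 2 n.ne_zero))
    have h1F : 1 < Fintype.card F := Fintype.one_lt_card
    have h4F : 4 ≤ Fintype.card F := by
      by_contra hlt
      have h3 : Fintype.card F = 3 := by
        obtain ⟨c, hc⟩ := hFo
        omega
      rw [h3] at hcF
      have h5 : Nat.card ↥S = 12 := by omega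
      have h6 := hσ.dvd a ha
      rw [h5] at h6
      have h8 := Nat.le_of_dvd (by norm_num) h6
      have h9 := h7 a (hσρ a ha)
      have h10 := hσ.prime a ha
      interval_cases a <;> first | omega | exact absurd h10 (by norm_num)
    have nad : ∀ a ∈ σ, ∀ b ∈ σ, a ≠ b →
        ¬ ∃ x : Matrix.ProjectiveSpecialLinearGroup (Fin 2) F, orderOf x = a * b := by
      rintro a ha b hb hab ⟨x, hx⟩
      exact hσ.nadj a ha b hb hab ⟨e.symm x, by rw [MulEquiv.orderOf_eq, hx]⟩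
    have three : ∀ a ∈ σ, ∀ b ∈ σ, ∀ c ∈ σ, a ≠ b → a ≠ c → b ≠ c →
        (v = a ∨ v = b ∨ v = c) ∧ ∃ s, (s = a ∨ s = b ∨ s = c) ∧ s ≠ v ∧ s ∣ Fintype.card F - 1 := by
      intro a ha b hb c hc hab hac hbc
      exact psl2_three (v := v) rfl h4F hFo (hσ.prime a ha) (hσ.prime b hb) (hσ.prime c hc) hab hac hbc
        (hcS ▸ hσ.dvd a ha) (hcS ▸ hσ.dvd b hb) (hcS ▸ hσ.dvd c hc) (nad a ha b hb hab) (nad a ha c hc hac)
        (nad b hb c hc hbc)
    obtain ⟨hva, s, hs, hsv, hsd⟩ := three a ha b hb c hc hab hac hbc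
    have hvσ : v ∈ σ := by
      rcases hva with h | h | h
      · exact h ▸ ha
      · exact h ▸ hb
      · exact h ▸ hc
    have hsσ : s ∈ σ := by
      rcases hs with h | h | h
      · exact h ▸ ha
      · exact h ▸ hb
      · exact h ▸ hc
    -- an element of `ρ` not dividing `|S|`
    obtain ⟨d, hdρ, hdσ⟩ : ∃ d ∈ ρ, d ∉ σ := by
      by_contra hcon
      push Not at hcon
      have h5 : ρ ⊆ σ := hcon
      have h6 := Finset.card_le_card h5
      have h8 : 2 < (σ.erase v).card := by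
        rw [Finset.card_erase_of_mem hvσ]
        omega
      obtain ⟨x, hx, y, hy, z, hz, hxy, hxz, hyz⟩ := Finset.two_lt_card.1 h8
      rcases (three x (Finset.mem_of_mem_erase hx) y (Finset.mem_of_mem_erase hy) z (Finset.mem_of_mem_erase hz)
        hxy hxz hyz).1 with h | h | h
      · exact (Finset.mem_erase.1 hx).1 h.symm
      · exact (Finset.mem_erase.1 hy).1 h.symm
      · exact (Finset.mem_erase.1 hz).1 h.symm
    have hdp := hρ.prime d hdρ
    have hdS : ¬ d ∣ Nat.card ↥S := fun h => hdσ (Finset.mem_filter.2 ⟨hdρ, h⟩)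
    have hdv : d ≠ v := by rintro rfl; exact hdσ hvσ
    have hds : d ≠ s := by rintro rfl; exact hdσ hsσ
    have hd7 := h7 d hdρ
    have hs7 := h7 s (hσρ s hsσ)
    have hsp := hσ.prime s hsσ
    let f : Matrix.ProjectiveSpecialLinearGroup (Fin 2) F →* G ⧸ K := S.subtype.comp e.symm.toMonoidHom
    have hf : Function.Injective f := (Subgroup.subtype_injective S).comp e.symm.injective
    have hdd : d ∣ Nat.card ↥K ∨ d ∣ S.index := by
      have h1 := hρ.dvd d hdρ
      rw [card_eq_mul (K := K) (S := S)] at h1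
      exact hdp.dvd_mul.1 ((hdp.dvd_mul.1 h1).resolve_left hdS)
    rcases hdd with hdK | hdi
    · obtain ⟨V, hV, hV1, t, ht, hto⟩ := psl2_borel (F := F) (v := v) hsp (by omega) hsd
      have hres := borel_adj K hdp hvp hsp hdv hds (Ne.symm hsv) hdK (V.map f) (hV.map f)
        (by rwa [Ne, Subgroup.map_eq_bot_iff_of_injective _ hf]) (t := f t)
        (by
          rw [mem_normalizer_iff] at ht ⊢
          intro x
          constructor
          · rintro ⟨y, hy, rfl⟩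
            refine ⟨t * y * t⁻¹, (ht y).1 hy, by rw [map_mul, map_mul, map_inv]⟩
          · rintro ⟨y, hy, hyx⟩
            refine ⟨t⁻¹ * y * t, ?_, ?_⟩
            · apply (ht _).2
              have : t * (t⁻¹ * y * t) * t⁻¹ = y := by group
              rw [this]
              exact hy
            · rw [map_mul, map_mul, map_inv, hyx]
              group)
        (by rw [orderOf_injective f hf, hto])
      rcases hres with h1 | h1 | h1
      · exact hρ.nadj d hdρ v (hσρ v hvσ) hdv h1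
      · exact hρ.nadj d hdρ s (hσρ s hsσ) hds h1
      · exact hρ.nadj v (hσρ v hvσ) s (hσρ s hsσ) (Ne.symm hsv) h1
    · -- `d ∣ |G/K : S|`
      obtain ⟨V⟩ : Nonempty (Sylow v ↥S) := inferInstance
      -- `|V| = u`
      have hcV : Nat.card ↥V = Fintype.card F := by
        have h5 := V.card_eq_multiplicity
        have hfac : 2 * Nat.card ↥S = Fintype.card F * (Fintype.card F ^ 2 - 1) := by rw [hcS, hcF]
        have hvq : ¬ v ∣ Fintype.card F ^ 2 - 1 := by
          intro h6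
          have h8 : v ∣ Fintype.card F ^ 2 := by rw [hn]; exact dvd_pow (dvd_pow_self v n.ne_zero) (by norm_num)
          have h9 := Nat.dvd_sub h8 h6
          have h10 : 1 ≤ Fintype.card F ^ 2 := Nat.one_le_pow _ _ (by omega)
          rw [show Fintype.card F ^ 2 - (Fintype.card F ^ 2 - 1) = 1 by omega] at h9
          exact hvp.one_lt.ne' (Nat.dvd_one.1 h9)
        apply Nat.dvd_antisymm
        · have h6 : Nat.card ↥V ∣ Fintype.card F * (Fintype.card F ^ 2 - 1) := by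
            rw [← hfac]
            exact (Subgroup.card_subgroup_dvd_card (V : Subgroup ↥S)).mul_left 2
          obtain ⟨j, hj⟩ := IsPGroup.iff_card.1 V.isPGroup'
          change Nat.card ↥V = v ^ j at hj
          rw [hj] at h6 ⊢
          exact (Nat.Coprime.pow_left j ((hvp.coprime_iff_not_dvd).2 hvq)).dvd_of_dvd_mul_right h6
        · change Fintype.card F ∣ Nat.card ↥(V : Subgroup ↥S)
          rw [h5, hn]
          apply pow_dvd_pow
          rw [← hvp.pow_dvd_iff_le_factorization Nat.card_pos.ne']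
          have h6 : v ^ (n : ℕ) ∣ 2 * Nat.card ↥S := by
            rw [hfac, hn]
            exact dvd_mul_right _ _
          exact (Nat.Coprime.pow_left _ ((Nat.coprime_primes hvp Nat.prime_two).2 hv2)).dvd_of_dvd_mul_left h6
      -- Frattini
      set W : Subgroup (G ⧸ K) := (V : Subgroup ↥S).map S.subtype with hW
      have hcW : Nat.card ↥W = Fintype.card F := by
        rw [← hcV]
        exact (Nat.card_congr ((V : Subgroup ↥S).equivMapOfInjective _ (Subgroup.subtype_injective S)).toEquiv).symm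
      have hfr : normalizer (W : Set (G ⧸ K)) ⊔ S = ⊤ := Sylow.normalizer_sup_eq_top V
      have hdN : d ∣ Nat.card ↥(normalizer (W : Set (G ⧸ K))) := by
        have h5 : S.relIndex (normalizer (W : Set (G ⧸ K))) = S.index := by
          rw [← Subgroup.relIndex_sup_right, hfr, Subgroup.relIndex_top_right]
        exact (h5 ▸ hdi).trans (Subgroup.relIndex_dvd_card _ _)
      have hdf := Fact.mk hdp
      obtain ⟨x, hx⟩ := exists_prime_orderOf_dvd_card' d hdN
      have hWp : IsPGroup v ↥W := V.isPGroup'.map _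
      obtain ⟨y, hy⟩ := exists_commute hdp hvp hdv W hWp (by
          rw [hcW]
          intro h5
          apply hdS
          have h6 : d ∣ Fintype.card F * (Fintype.card F ^ 2 - 1) := by
            have : Fintype.card F ^ 2 - 1 = (Fintype.card F + 1) * (Fintype.card F - 1) := by
              simpa using Nat.sq_sub_sq (Fintype.card F) 1
            rw [this]
            exact (h5.mul_left _).mul_left _
          rw [← hcF, ← hcS] at h6
          exact (hdp.dvd_mul.1 h6).resolve_left fun h => by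
            have := Nat.le_of_dvd (by norm_num) h
            omega) (x := (x : G ⧸ K)) x.2 (by rw [Subgroup.orderOf_coe, hx])
      exact hρ.nadj v (hσρ v hvσ) d hdρ (Ne.symm hdv)
        (Cfsg.Agent.H414.Adj.exists_order_quot K (Nat.mul_ne_zero hvp.ne_zero hdp.ne_zero) ⟨y, hy⟩)

end Cfsg.Agent.H202.TP
end

-- part: H202/TP/Frame
section
/-!
# Block TP (S3536), the frame (helper202)

`GK p q k G` : what is used of a group isospectral to `PSp_{2n}(q)`, `Ω_{2n+1}(q)`, `n = 2 ^ k`;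
`frame` : `Red G K S`, `TK p q k S`, and `r ∤ |K| |G/K : S|` for the primes `r ∣ mn q k`.
-/

set_option autoImplicit false
set_option linter.unusedSectionVars false
set_option linter.unusedVariables false

namespace Cfsg.Agent.H202.TP

open Cfsg.Agent.H420.QR Cfsg.Agent.H104.TSp Subgroup Cfsg.Agent.H202.T

universe u

/-- What is used of the group. -/
structure GK (p q k : ℕ) (G : Type*) [Group G] : Prop where
  prime : p.Prime
  ne_two : p ≠ 2
  pow : ∃ a, Odd a ∧ q = p ^ a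
  hk : 3 ≤ k
  mem : ∃ x : G, orderOf x = mn q k
  iso : ∀ (r : ℕ) (x : G), r.Prime → r ∣ mn q k → r ∣ orderOf x → orderOf x ∣ mn q k
  two : ∀ (j : ℕ) (x : G), 2 ^ j ∣ orderOf x → 2 ^ j ∣ mn q k - 1
  tor : ∀ x : G, (∀ i, 1 ≤ i → i < k → ∃ s, s.Prime ∧ s ≠ 2 ∧ s ∣ q ^ 2 ^ i + 1 ∧ s ∣ orderOf x) →
    ∃ j, orderOf x ∣ p ^ j * (q ^ 2 ^ k - 1)
  pr : ∀ r : ℕ, r.Prime → r ∣ Nat.card G → r = p ∨ ∃ i, 1 ≤ i ∧ i ≤ 2 ^ k ∧ r ∣ q ^ (2 * i) - 1
  coq : ∀ r : ℕ, r.Prime → r ∣ mn q k → ∃ ρ : Finset ℕ, IsCoq G ρ ∧ 4 ≤ ρ.card ∧ r ∈ ρ ∧ (∀ s ∈ ρ, 7 < s) ∧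
    ∀ s ∈ ρ, s ≠ r → ¬ s ∣ mn q k

section

variable {p q k : ℕ}

/-- transfer along an equality of spectra -/
theorem GK.of_spec {L G : Type*} [Group L] [Finite L] [Group G] [Finite G] (hL : GK p q k L)
    (h : Set.range (orderOf : G → ℕ) = Set.range (orderOf : L → ℕ)) : GK p q k G := by
  have hex : ∀ n : ℕ, (∃ x : G, orderOf x = n) ↔ ∃ x : L, orderOf x = n := fun n => Set.ext_iff.1 h n
  have hd : ∀ r : ℕ, r.Prime → (r ∣ Nat.card L ↔ r ∣ Nat.card G) := by
    intro r hr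
    have hr' := Fact.mk hr
    constructor
    · intro hd
      obtain ⟨x, hx⟩ := exists_prime_orderOf_dvd_card' r hd
      obtain ⟨y, hy⟩ := (hex r).2 ⟨x, hx⟩
      rw [← hy]
      exact orderOf_dvd_natCard y
    · intro hd
      obtain ⟨x, hx⟩ := exists_prime_orderOf_dvd_card' r hd
      obtain ⟨y, hy⟩ := (hex r).1 ⟨x, hx⟩
      rw [← hy]
      exact orderOf_dvd_natCard y
  refine ⟨hL.prime, hL.ne_two, hL.pow, hL.hk, (hex _).2 hL.mem, ?_, ?_, ?_, ?_, ?_⟩
  · intro r x hr hrm hrx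
    obtain ⟨y, hy⟩ := (hex (orderOf x)).1 ⟨x, rfl⟩
    rw [← hy] at hrx ⊢
    exact hL.iso r y hr hrm hrx
  · intro j x hj
    obtain ⟨y, hy⟩ := (hex (orderOf x)).1 ⟨x, rfl⟩
    rw [← hy] at hj
    exact hL.two j y hj
  · intro x hx
    obtain ⟨y, hy⟩ := (hex (orderOf x)).1 ⟨x, rfl⟩
    rw [← hy] at hx ⊢
    exact hL.tor y hx
  · exact fun r hr hrG => hL.pr r hr ((hd r hr).2 hrG)
  · intro r hr hrm
    obtain ⟨ρ, h1, h2, h3, h4, h5⟩ := hL.coq r hr hrm
    refine ⟨ρ, ⟨h1.prime, fun s hs => (hd s (h1.prime s hs)).1 (h1.dvd s hs), ?_⟩, h2, h3, h4, h5⟩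
    intro s hs t ht hst hx
    exact h1.nadj s hs t ht hst ((hex _).1 hx)

theorem GK.congr {L G : Type*} [Group L] [Group G] (hL : GK p q k L) (e : L ≃* G) : GK p q k G where
  prime := hL.prime
  ne_two := hL.ne_two
  pow := hL.pow
  hk := hL.hk
  mem := by
    obtain ⟨x, hx⟩ := hL.mem
    exact ⟨e x, by rw [MulEquiv.orderOf_eq, hx]⟩
  iso := fun r x => by rw [← MulEquiv.orderOf_eq e.symm x]; exact hL.iso r _
  two := fun j x => by rw [← MulEquiv.orderOf_eq e.symm x]; exact hL.two j _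
  tor := fun x => by rw [← MulEquiv.orderOf_eq e.symm x]; exact hL.tor _
  pr := by rw [← Nat.card_congr e.toEquiv]; exact hL.pr
  coq := by
    intro r hr hrm
    obtain ⟨ρ, h1, h2, h3, h4, h5⟩ := hL.coq r hr hrm
    refine ⟨ρ, ⟨h1.prime, fun s hs => ?_, ?_⟩, h2, h3, h4, h5⟩
    · rw [← Nat.card_congr e.toEquiv]
      exact h1.dvd s hs
    · rintro s hs t ht hst ⟨x, hx⟩
      exact h1.nadj s hs t ht hst ⟨e.symm x, by rw [MulEquiv.orderOf_eq, hx]⟩

variable {G : Type u} [Group G] [Finite G]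

theorem GK.odd (h : GK p q k G) : Odd q := by
  obtain ⟨f, -, rfl⟩ := h.pow
  exact (h.prime.odd_of_ne_two h.ne_two).pow

theorem GK.three_le (h : GK p q k G) : 3 ≤ q := by
  obtain ⟨f, hf, rfl⟩ := h.pow
  have h1 := h.prime.two_le
  have h2 := h.ne_two
  have h3 : p ^ 1 ≤ p ^ f := Nat.pow_le_pow_right h.prime.pos hf.pos
  rw [pow_one] at h3
  omega

theorem GK.mn_ge (h : GK p q k G) : 3281 ≤ mn q k := Cfsg.Agent.H202.TP.mn_ge h.hk h.three_le

theorem GK.ne_two_of_dvd (h : GK p q k G) {r : ℕ} (hr : r ∣ mn q k) : r ≠ 2 := by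
  rintro rfl
  have h1 := Cfsg.Agent.H202.TP.mn_eq (by have := h.hk; omega : 2 ≤ k) q
  have h2 := mm_mod (h.odd.pow (n := 2 ^ (k - 2)))
  rw [h1] at hr
  omega

theorem GK.exists_prime (h : GK p q k G) : ∃ r : ℕ, r.Prime ∧ r ∣ mn q k :=
  Nat.exists_prime_and_dvd (by have := h.mn_ge; omega)

theorem GK.not_two (h : GK p q k G) {r : ℕ} (hr : r.Prime) (hrm : r ∣ mn q k) : ¬ ∃ x : G, orderOf x = 2 * r := by
  rintro ⟨x, hx⟩
  have h1 := h.iso r x hr hrm (by rw [hx]; exact dvd_mul_left _ _)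
  rw [hx] at h1
  exact h.ne_two_of_dvd ((dvd_mul_right 2 r).trans h1) rfl

theorem GK.mn_dvd (h : GK p q k G) : mn q k ∣ Nat.card G := by
  obtain ⟨x, hx⟩ := h.mem
  rw [← hx]
  exact orderOf_dvd_natCard x

/-- two odd primes at most in a coclique of odd primes of `PSL_2(u)`, `u` even -/
theorem psl2_even {F : Type} [Field F] [Fintype F] (hF : ¬ Odd (Fintype.card F)) {a b c : ℕ} (ha : a.Prime)
    (hb : b.Prime) (hc : c.Prime) (ha2 : 7 < a) (hb2 : 7 < b) (hc2 : 7 < c) (hab : a ≠ b) (hac : a ≠ c) (hbc : b ≠ c)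
    (da : a ∣ Nat.card (Matrix.ProjectiveSpecialLinearGroup (Fin 2) F))
    (db : b ∣ Nat.card (Matrix.ProjectiveSpecialLinearGroup (Fin 2) F))
    (dc : c ∣ Nat.card (Matrix.ProjectiveSpecialLinearGroup (Fin 2) F))
    (nab : ¬ ∃ x : Matrix.ProjectiveSpecialLinearGroup (Fin 2) F, orderOf x = a * b)
    (nac : ¬ ∃ x : Matrix.ProjectiveSpecialLinearGroup (Fin 2) F, orderOf x = a * c)
    (nbc : ¬ ∃ x : Matrix.ProjectiveSpecialLinearGroup (Fin 2) F, orderOf x = b * c) : False := by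
  classical
  obtain ⟨v, hv⟩ := CharP.exists F
  have hvp : v.Prime := CharP.char_is_prime F v
  have hvf := Fact.mk hvp
  obtain ⟨n, -, hn⟩ := FiniteField.card F v
  have hv2 : v = 2 := by
    by_contra hne
    apply hF
    rw [hn]
    exact (hvp.odd_of_ne_two hne).pow
  subst hv2
  have h1F : 1 < Fintype.card F := Fintype.one_lt_card
  have hfin : Finite (Matrix.ProjectiveSpecialLinearGroup (Fin 2) F) := inferInstance
  have h4F : 4 ≤ Fintype.card F := by
    by_contra hlt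
    have h2 : Fintype.card F = 2 := by
      rcases Nat.lt_or_ge 1 (n : ℕ) with h | h
      · have : 2 ^ 2 ≤ 2 ^ (n : ℕ) := Nat.pow_le_pow_right (by norm_num) h
        omega
      · have : (n : ℕ) = 1 := le_antisymm h n.2
        rw [hn, this, pow_one]
    have h := S0243.result (F := F) rfl 2 le_rfl
    simp only [Fin.prod_univ_two, Fin.val_zero, Fin.val_one, pow_zero, pow_one] at h
    rw [h2] at h
    have e1 : Nat.gcd 2 (2 - 1) = 1 := rfl
    rw [e1] at h
    have e2 : (2 ^ 2 - 1) * (2 ^ 2 - 2) = 6 := rfl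
    rw [e2] at h
    have h6 : Nat.card (Matrix.ProjectiveSpecialLinearGroup (Fin 2) F) = 6 := by omega
    rw [h6] at da
    have := Nat.le_of_dvd (by norm_num) da
    omega
  have hord : ∀ m : ℕ, (∃ x : Matrix.ProjectiveSpecialLinearGroup (Fin 2) F, orderOf x = m) ↔
      (m ∣ 2 ∨ m ∣ Fintype.card F - 1 ∨ m ∣ Fintype.card F + 1) := by
    intro m
    have := Set.ext_iff.1 (S2475.result (F := F) 2 h4F) m
    have hg1 : Nat.gcd 2 (Fintype.card F - 1) = 1 := by
      apply Nat.coprime_two_left.2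
      rw [Nat.not_odd_iff_even] at hF
      exact Nat.Even.sub_odd (by omega) hF odd_one
    rw [hg1, Nat.div_one, Nat.div_one] at this
    exact this
  have hcau : ∀ t : ℕ, t.Prime → 7 < t → t ∣ Nat.card (Matrix.ProjectiveSpecialLinearGroup (Fin 2) F) →
      t ∣ Fintype.card F - 1 ∨ t ∣ Fintype.card F + 1 := by
    intro t ht ht7 hd
    have ht' := Fact.mk ht
    obtain ⟨x, hx⟩ := exists_prime_orderOf_dvd_card' t hd
    rcases (hord t).1 ⟨x, hx⟩ with h | h | h
    · have := Nat.le_of_dvd (by norm_num) h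
      omega
    · exact Or.inl h
    · exact Or.inr h
  have one : ∀ x y : ℕ, x.Prime → y.Prime → x ≠ y →
      (¬ ∃ g : Matrix.ProjectiveSpecialLinearGroup (Fin 2) F, orderOf g = x * y) →
      ¬ (x ∣ Fintype.card F - 1 ∧ y ∣ Fintype.card F - 1) ∧ ¬ (x ∣ Fintype.card F + 1 ∧ y ∣ Fintype.card F + 1) := by
    intro x y hx hy hxy hn
    have hco := (Nat.coprime_primes hx hy).2 hxy
    refine ⟨fun h => hn ((hord _).2 (Or.inr (Or.inl (hco.mul_dvd_of_dvd_of_dvd h.1 h.2)))),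
      fun h => hn ((hord _).2 (Or.inr (Or.inr (hco.mul_dvd_of_dvd_of_dvd h.1 h.2))))⟩
  obtain ⟨ab1, ab2⟩ := one a b ha hb hab nab
  obtain ⟨ac1, ac2⟩ := one a c ha hc hac nac
  obtain ⟨bc1, bc2⟩ := one b c hb hc hbc nbc
  rcases hcau a ha ha2 da with ca | ca <;> rcases hcau b hb hb2 db with cb | cb <;>
    rcases hcau c hc hc2 dc with cc | cc
  · exact ab1 ⟨ca, cb⟩
  · exact ab1 ⟨ca, cb⟩
  · exact ac1 ⟨ca, cc⟩
  · exact bc2 ⟨cb, cc⟩
  · exact bc1 ⟨cb, cc⟩
  · exact ac2 ⟨ca, cc⟩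
  · exact ab2 ⟨ca, cb⟩
  · exact ab2 ⟨ca, cb⟩

/-- **The frame.** -/
theorem frame (h : GK p q k G) :
    ∃ (K : Subgroup G) (_ : K.Normal) (S : Subgroup (G ⧸ K)) (_ : S.Normal), Red G K S ∧ TK p q k ↥S ∧
      ∀ r : ℕ, r.Prime → r ∣ mn q k → ¬ r ∣ Nat.card ↥K ∧ ¬ r ∣ S.index := by
  classical
  obtain ⟨r0, p0, d0⟩ := h.exists_prime
  obtain ⟨ρ, hρ, h4, hrρ, h7, hnm⟩ := h.coq r0 p0 d0
  obtain ⟨K, hK, S, hS, hR⟩ := exists_red hρ (by omega)
    ⟨r0, p0, h.ne_two_of_dvd d0, d0.trans h.mn_dvd, h.not_two p0 d0⟩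
  have hA := not_altL2 hR hρ h4 h7
  have hcop : ∀ r : ℕ, r.Prime → r ∣ mn q k → r ∣ Nat.card ↥S ∧ ¬ r ∣ Nat.card ↥K ∧ ¬ r ∣ S.index := fun r hr hrm =>
    (hR.two.resolve_left hA) r hr (h.ne_two_of_dvd hrm) (hrm.trans h.mn_dvd) (h.not_two hr hrm)
  have hup : ∀ y : ↥S, ∃ x : G, orderOf y ∣ orderOf x := by
    intro y
    obtain ⟨x, hx⟩ := QuotientGroup.mk'_surjective K (y : G ⧸ K)
    refine ⟨x, ?_⟩
    rw [← Subgroup.orderOf_coe, ← hx]
    exact orderOf_map_dvd _ x
  -- the coclique of `S`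
  obtain ⟨hσ, hcard⟩ := hR.filter hρ (by omega)
  set σ := ρ.filter fun r => r ∣ Nat.card ↥S with hσd
  have hσρ : ∀ r ∈ σ, r ∈ ρ := fun r hr => (Finset.mem_filter.1 hr).1
  have hr0σ : r0 ∈ σ := Finset.mem_filter.2 ⟨hrρ, (hcop r0 p0 d0).1⟩
  have h3 : 1 < (σ.erase r0).card := by
    rw [Finset.card_erase_of_mem hr0σ]
    omega
  obtain ⟨a, ha, b, hb, hab⟩ := Finset.one_lt_card.1 h3
  obtain ⟨ha0, ha⟩ := Finset.mem_erase.1 ha
  obtain ⟨hb0, hb⟩ := Finset.mem_erase.1 hb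
  refine ⟨K, hK, S, hS, hR, ⟨h.prime, h.ne_two, h.pow, h.hk, ?_, ?_, ?_, ?_, ?_, ?_, ?_⟩, fun r hr hrm => (hcop r hr hrm).2⟩
  · obtain ⟨x, hx⟩ := h.mem
    obtain ⟨y, hy⟩ := exists_in_section (K := K) (S := S) (x := x)
      (by
        rw [hx]
        exact Nat.Coprime.symm (Nat.coprime_of_dvd fun r hr h1 h2 => (hcop r hr h2).2.1 h1))
      (by
        rw [hx]
        exact Nat.Coprime.symm (Nat.coprime_of_dvd fun r hr h1 h2 => (hcop r hr h2).2.2 h1))
    exact ⟨y, hy.trans hx⟩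
  · intro r y hr hrm hry
    obtain ⟨x, hx⟩ := hup y
    exact hx.trans (h.iso r x hr hrm (hry.trans hx))
  · intro j y hj
    obtain ⟨x, hx⟩ := hup y
    exact h.two j x (hj.trans hx)
  · intro y hy
    obtain ⟨x, hx⟩ := hup y
    obtain ⟨j, hj⟩ := h.tor x fun i hi hik => by
      obtain ⟨s, h1, h2, h3, h4⟩ := hy i hi hik
      exact ⟨s, h1, h2, h3, h4.trans hx⟩
    exact ⟨j, hx.trans hj⟩
  · exact fun r hr hrS => h.pr r hr (hrS.trans hR.pi)
  · refine ⟨a, b, hσ.prime a ha, hσ.prime b hb, ?_, ?_, hab, hnm a (hσρ a ha) ha0, hnm b (hσρ b hb) hb0, hσ.dvd a ha,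
      hσ.dvd b hb, hσ.nadj a ha b hb hab⟩
    · have := h7 a (hσρ a ha); omega
    · have := h7 b (hσρ b hb); omega
  · intro F _ _
    refine ⟨fun e => ?_⟩
    by_cases hF : Odd (Fintype.card F)
    · exact hA (Or.inr ⟨F, _, _, hF, ⟨e⟩⟩)
    · have hcS : Nat.card ↥S = Nat.card (Matrix.ProjectiveSpecialLinearGroup (Fin 2) F) := Nat.card_congr e.toEquiv
      have nad : ∀ a ∈ σ, ∀ b ∈ σ, a ≠ b →
          ¬ ∃ x : Matrix.ProjectiveSpecialLinearGroup (Fin 2) F, orderOf x = a * b := by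
        rintro a ha b hb hab ⟨x, hx⟩
        exact hσ.nadj a ha b hb hab ⟨e.symm x, by rw [MulEquiv.orderOf_eq, hx]⟩
      exact psl2_even hF p0 (hσ.prime a ha) (hσ.prime b hb) (h7 _ (hσρ _ hr0σ)) (h7 a (hσρ a ha)) (h7 b (hσρ b hb))
        (Ne.symm ha0) (Ne.symm hb0) hab (hcS ▸ hσ.dvd _ hr0σ) (hcS ▸ hσ.dvd a ha) (hcS ▸ hσ.dvd b hb)
        (nad _ hr0σ _ ha (Ne.symm ha0)) (nad _ hr0σ _ hb (Ne.symm hb0)) (nad _ ha _ hb hab)

end

end Cfsg.Agent.H202.TP
end
end

-- part: H202/TP/KBot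
section
prune_inst 0x42060440980000000000092010000441400010000630001798005080806d32389022f0164a01e0211ea22a060404050110000c902100000200006004000000080a9648223340d0810000780b807180c00000000000000000000000000041004000000000
set_option linter.all false
open scoped Cfsg.Agent.FastGrp

/-!
# Block TP (S3536): the solvable radical is trivial (helper202)

`kbot` : `G / K ≅ L`, `K` solvable and prime to `mn q k`, `GK p q k G`; two hypotheses on the actions of `L`
(`hfix` : own characteristic; `hstep` : the other characteristics). Then `K = 1`.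
-/

set_option autoImplicit false
set_option linter.unusedSectionVars false
set_option linter.unusedVariables false

namespace Cfsg.Agent.H202.TP

open Subgroup

universe u v

/-- A chief factor of `G` below the solvable normal subgroup `K`, at the top of `K` (as in `H371/CoverTwo`). -/
theorem exists_chief {G : Type*} [Group G] [Finite G] (K : Subgroup G) [hKn : K.Normal] (hK : Group.IsSolvable K)
    (hne : K ≠ ⊥) :
    ∃ (L : Subgroup G) (_ : L.Normal), L ≤ K ∧ K.map (QuotientGroup.mk' L) ≠ ⊥ ∧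
      (∀ x ∈ K.map (QuotientGroup.mk' L), ∀ y ∈ K.map (QuotientGroup.mk' L), x * y = y * x) ∧
      ∃ e : ℕ, e.Prime ∧ e ∣ Nat.card K ∧ ∀ x ∈ K.map (QuotientGroup.mk' L), x ^ e = 1 := by
  classical
  have hfin : {L : Subgroup G | L.Normal ∧ L ≤ K ∧ L ≠ K}.Finite := Set.toFinite _
  obtain ⟨L, ⟨hLn, hLK, hLne⟩, hLmax⟩ := hfin.exists_maximal ⟨⊥, inferInstance, bot_le, hne.symm⟩
  have := hLn
  set π := QuotientGroup.mk' L with hπ
  set V := K.map π with hV
  have hπs : Function.Surjective π := QuotientGroup.mk'_surjective L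
  have hVn : V.Normal := Subgroup.Normal.map hKn π hπs
  have hker : π.ker = L := QuotientGroup.ker_mk' L
  have hV0 : V ≠ ⊥ := by
    intro h
    apply hLne
    apply le_antisymm hLK
    rw [← hker]
    exact (Subgroup.map_eq_bot_iff _).1 h
  have hmin : ∀ M : Subgroup (G ⧸ L), M.Normal → M ≤ V → M = ⊥ ∨ M = V := by
    intro M hM hMV
    have h1 : (M.comap π).Normal := hM.comap π
    have h2 : L ≤ M.comap π := le_of_eq_of_le hker.symm (Subgroup.ker_le_comap _ _)
    have h3 : M.comap π ≤ K := by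
      have h4 : M.comap π ≤ V.comap π := Subgroup.comap_mono hMV
      rwa [hV, Subgroup.comap_map_eq, hker, sup_eq_left.2 hLK] at h4
    by_cases h5 : M.comap π = K
    · right
      rw [hV, ← h5, Subgroup.map_comap_eq_self_of_surjective hπs]
    · left
      have h6 : M.comap π = L := le_antisymm (hLmax ⟨h1, h3, h5⟩ h2) h2
      rw [← Subgroup.map_comap_eq_self_of_surjective hπs M, h6, Subgroup.map_eq_bot_iff, hker]
  have hVs : Group.IsSolvable V := by
    have := hK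
    exact Group.isSolvable_of_surjective (f := π.subgroupMap K) (π.subgroupMap_surjective K)
  have hab : ∀ x ∈ V, ∀ y ∈ V, Commute x y := by
    have h1 : (⁅V, V⁆ : Subgroup (G ⧸ L)).Normal := inferInstance
    rcases hmin _ h1 (Subgroup.commutator_le_self V) with h2 | h2
    · intro x hx y hy
      rw [Subgroup.commutator_eq_bot_iff_le_centralizer] at h2
      exact (Subgroup.mem_centralizer_iff.1 (h2 hx) y hy).symm
    · exfalso
      apply hV0
      have h3 : ∀ n, (derivedSeries V n).map V.subtype = V := by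
        intro n
        induction n with
        | zero => rw [derivedSeries_zero, ← MonoidHom.range_eq_map, Subgroup.range_subtype]
        | succ n ih => rw [derivedSeries_succ, Subgroup.map_commutator, ih, h2]
      obtain ⟨n, hn⟩ := (Group.isSolvable_def V).1 hVs
      rw [← h3 n, hn, Subgroup.map_bot]
  obtain ⟨e, he, hpg, hexp⟩ := Cfsg.Agent.Lib.MinNormalNonabelian.abelian_structure V hV0 hmin hab
  refine ⟨L, hLn, hLK, hV0, hab, e, he, ?_, hexp⟩
  obtain ⟨x, hx1⟩ := (Subgroup.ne_bot_iff_exists_ne_one).1 hV0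
  have h1 : orderOf (x : G ⧸ L) = e := by
    have := Fact.mk he
    exact orderOf_eq_prime (hexp x x.2) (fun h => hx1 (Subtype.ext h))
  have h2 : e ∣ Nat.card V := by
    rw [← h1, Subgroup.orderOf_coe]
    exact orderOf_dvd_natCard x
  exact h2.trans (Subgroup.card_map_dvd K π)

/-- a prime divisor of `p ^ n + 1` divides `mn (p ^ a) k`, `a` odd -/
theorem dvd_mn_of_dvd {p a k r : ℕ} (hp : p.Prime) (hp2 : p ≠ 2) (ha : Odd a) (hk : 2 ≤ k) (hr : r.Prime) (hr2 : r ≠ 2)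
    (h : r ∣ p ^ 2 ^ k + 1) : r ∣ mn (p ^ a) k := by
  have h1 : p ^ 2 ^ k + 1 ∣ (p ^ a) ^ 2 ^ k + 1 := by
    rw [← pow_mul, mul_comm a, pow_mul]
    simpa using ha.nat_add_dvd_pow_add_pow (p ^ 2 ^ k) 1
  have h2 := h.trans h1
  rw [← two_mn hk ((hp.odd_of_ne_two hp2).pow)] at h2
  exact (hr.dvd_mul.1 h2).resolve_left fun h3 => hr2 ((Nat.prime_dvd_prime_iff_eq hr Nat.prime_two).1 h3)

variable {p q k : ℕ}

/-- the numerical part of the coprime step -/
theorem no_step {G : Type*} [Group G] [Finite G] (h : GK p q k G) {t : ℕ} (ht : t.Prime) (htp : t ≠ p) (g : G)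
    (hg : t * ((q ^ 2 ^ k - 1) / 2) ∣ orderOf g) : False := by
  have hk2 : 2 ≤ k := by have := h.hk; omega
  have hm := h.mn_ge
  rw [half_mn hk2 h.odd] at hg
  obtain ⟨j, hj⟩ := h.tor g fun i hi hik => by
    obtain ⟨s, hs, hs2, hsd, hsm⟩ := exists_prime_level (k := k) h.odd h.three_le hi hik
    exact ⟨s, hs, hs2, hsd, (hsm.mul_left t).trans hg⟩
  have h1 : t * (mn q k - 1) ∣ (p ^ j * 2) * (mn q k - 1) := by
    have := hg.trans hj
    rwa [← two_mn_sub hk2 h.odd, ← mul_assoc] at this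
  have h2 : t ∣ p ^ j * 2 := Nat.dvd_of_mul_dvd_mul_right (by omega) h1
  have h3 : t = 2 := by
    rcases ht.dvd_mul.1 h2 with h3 | h3
    · exact absurd ((Nat.prime_dvd_prime_iff_eq ht h.prime).1 (ht.dvd_of_dvd_pow h3)) htp
    · exact (Nat.prime_dvd_prime_iff_eq ht Nat.prime_two).1 h3
  subst h3
  obtain ⟨b, c, hc, hbc⟩ := Nat.exists_eq_two_pow_mul_odd (n := mn q k - 1) (by omega)
  have h4 : 2 ^ (b + 1) ∣ orderOf g := by
    refine Dvd.dvd.trans ?_ hg
    rw [hbc]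
    exact ⟨c, by ring⟩
  have h5 := h.two (b + 1) g h4
  rw [hbc, pow_succ] at h5
  have h6 : 2 ∣ c := Nat.dvd_of_mul_dvd_mul_left (by positivity) h5
  exact (Nat.not_even_iff_odd.2 hc) (even_iff_two_dvd.2 h6)

/-- **The solvable radical is trivial.** -/
theorem kbot {a : ℕ} (hp2 : p ≠ 2) (ha : Odd a) (hqa : q = p ^ a) {G : Type u} [Group G] [Finite G] (h : GK p q k G)
    {K : Subgroup G} [K.Normal] (hsolv : Group.IsSolvable K)
    (hcop : ∀ r : ℕ, r.Prime → r ∣ mn q k → ¬ r ∣ Nat.card K) {L : Type v} [Group L] (e : (G ⧸ K) ≃* L)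
    (hfix : ∀ (W : Type u) [CommGroup W] [Finite W] [Nontrivial W], (∀ w : W, w ^ p = 1) → ∀ φ : L →* MulAut W,
      ∃ (r : ℕ) (x : L) (w : W), r.Prime ∧ r ≠ 2 ∧ r ∣ p ^ 2 ^ k + 1 ∧ orderOf x = r ∧ w ≠ 1 ∧ φ x w = w)
    (hstep : ∀ (X : Type u) [Group X] [Finite X] (V : Subgroup X) [V.Normal],
      (∀ v ∈ V, ∀ w ∈ V, v * w = w * v) → ∀ t : ℕ, t.Prime → t ≠ p → (∀ v ∈ V, v ^ t = 1) →
      Nonempty ((X ⧸ V) ≃* L) → (∃ x : X, ∃ v ∈ V, x * v ≠ v * x) →
      ∃ x : X, t * ((q ^ 2 ^ k - 1) / 2) ∣ orderOf x) : K = ⊥ := by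
  classical
  by_contra hne
  obtain ⟨N, hN, hNK, hV0, hVc, t, ht, htK, hexp⟩ := exists_chief K hsolv hne
  set V := K.map (QuotientGroup.mk' N) with hV
  have hVn : V.Normal := Subgroup.Normal.map inferInstance _ (QuotientGroup.mk'_surjective N)
  let e1 : (G ⧸ N) ⧸ V ≃* G ⧸ K := QuotientGroup.quotientQuotientEquivQuotient N K hNK
  have htm : ¬ t ∣ mn q k := fun h1 => hcop t ht h1 htK
  have hlift : ∀ x : G ⧸ N, ∃ g : G, orderOf x ∣ orderOf g := by
    intro x
    obtain ⟨g, rfl⟩ := QuotientGroup.mk'_surjective N x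
    exact ⟨g, orderOf_map_dvd _ g⟩
  have key : ∀ (r : ℕ) (x v : G ⧸ N), r.Prime → r ∣ mn q k → r ∣ orderOf x → v ∈ V → v ≠ 1 → x * v ≠ v * x := by
    intro r x v hr hrm hrx hv hv1 hxv
    have hot : orderOf v = t := by
      have := Fact.mk ht
      exact orderOf_eq_prime (hexp v hv) hv1
    have hx0 : 0 < orderOf x := orderOf_pos x
    obtain ⟨m', hm'⟩ := hrx
    have hm0 : m' ≠ 0 := by
      rintro rfl
      rw [mul_zero] at hm'
      omega
    have hor : orderOf (x ^ m') = r := by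
      rw [orderOf_pow_of_dvd hm0 ⟨r, by rw [hm', mul_comm]⟩, hm']
      exact Nat.mul_div_cancel _ (Nat.pos_of_ne_zero hm0)
    have hc : Commute (x ^ m') v := Commute.pow_left (show Commute x v from hxv) m'
    have hrt : r ≠ t := by
      rintro rfl
      exact htm hrm
    have ho : orderOf (x ^ m' * v) = r * t := by
      rw [hc.orderOf_mul_eq_mul_orderOf_of_coprime (by rw [hor, hot]; exact (Nat.coprime_primes hr ht).2 hrt), hor, hot]
    obtain ⟨g, hg⟩ := hlift (x ^ m' * v)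
    rw [ho] at hg
    have h1 := h.iso r g hr hrm ((dvd_mul_right r t).trans hg)
    exact htm (((dvd_mul_left t r).trans hg).trans h1)
  by_cases htp : t = p
  · -- own characteristic
    let hcg : CommGroup V := { (inferInstance : Group V) with mul_comm := fun x y => Subtype.ext (hVc x x.2 y y.2) }
    have hnt : Nontrivial V := (Subgroup.nontrivial_iff_ne_bot V).2 hV0
    let φ0 : G ⧸ N →* MulAut V := MulAut.conjNormal
    have hker : ∀ x ∈ V, φ0 x = 1 := by
      intro x hx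
      ext w
      have h1 : ((φ0 x w : V) : G ⧸ N) = x * w * x⁻¹ := MulAut.conjNormal_apply x w
      rw [h1, hVc x hx w w.2]
      simp
    let φ1 : (G ⧸ N) ⧸ V →* MulAut V := QuotientGroup.lift V φ0 hker
    let e2 : L ≃* (G ⧸ N) ⧸ V := (e1.trans e).symm
    obtain ⟨r, x, w, hr, hr2, hrd, hx, hw, hxw⟩ := hfix V
      (fun w => Subtype.ext (by rw [← htp]; exact hexp w w.2)) (φ1.comp e2.toMonoidHom)
    obtain ⟨z, hz⟩ := QuotientGroup.mk'_surjective V (e2 x)
    have h1 : φ0 z w = w := by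
      have h2 : φ1 (e2 x) w = w := hxw
      rw [← hz] at h2
      exact h2
    have h3 : z * (w : G ⧸ N) * z⁻¹ = w := by
      have h4 : ((φ0 z w : V) : G ⧸ N) = z * w * z⁻¹ := MulAut.conjNormal_apply z w
      rw [← h4, h1]
    have hrz : r ∣ orderOf z := by
      have h4 : orderOf (e2 x) = r := by rw [MulEquiv.orderOf_eq, hx]
      rw [← h4, ← hz]
      exact orderOf_map_dvd _ z
    have hrm : r ∣ mn q k := by
      rw [hqa]
      exact dvd_mn_of_dvd h.prime hp2 ha (by have := h.hk; omega) hr hr2 hrd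
    refine key r z w hr hrm hrz w.2 (fun h4 => hw (Subtype.ext h4)) ?_
    rw [mul_inv_eq_iff_eq_mul] at h3
    exact h3
  · by_cases hact : ∃ x : G ⧸ N, ∃ v ∈ V, x * v ≠ v * x
    · obtain ⟨x, hx⟩ := hstep (G ⧸ N) V hVc t ht htp hexp ⟨e1.trans e⟩ hact
      obtain ⟨g, hg⟩ := hlift x
      exact no_step h ht htp g (hx.trans hg)
    · push Not at hact
      obtain ⟨r, hr, hrm⟩ := h.exists_prime
      have h1 : r ∣ Nat.card (G ⧸ N) := by
        have h2 := hrm.trans h.mn_dvd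
        rw [Subgroup.card_eq_card_quotient_mul_card_subgroup N] at h2
        exact (hr.dvd_mul.1 h2).resolve_right fun h3 => hcop r hr hrm (h3.trans (Subgroup.card_dvd_of_le hNK))
      have hrf := Fact.mk hr
      obtain ⟨x, hx⟩ := exists_prime_orderOf_dvd_card' r h1
      obtain ⟨v, hv, hv1⟩ := (Subgroup.ne_bot_iff_exists_ne_one).1 hV0 |>.imp fun v hv => (⟨v.2, hv⟩ : _ ∧ _)
      exact key r x v hr hrm (by rw [hx]) hv (fun h2 => hv1 (Subtype.ext h2)) (hact x v hv)

end Cfsg.Agent.H202.TP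
end

-- part: H202/TP/Asm
section
set_option linter.all false
open scoped Cfsg.Agent.FastGrp

/-!
# Block TP (S3536): from the composition factor to the group (helper202)

`asm` : `Red G K S`, `S ≅ PSp_{2n}(q)` or `Ω_{2n+1}(q)`, `GK p q k G`; then `G ≅ S`.
-/

set_option autoImplicit false
set_option linter.unusedSectionVars false
set_option linter.unusedVariables false

namespace Cfsg.Agent.H202.TP

open Cfsg Cfsg.Agent.H420.QR Subgroup

universe u v w

/-- the coprime step in the form used by `kbot` -/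
theorem step_of {F : Type w} [Field F] [Fintype F] {p a k : ℕ} (hp : p.Prime) (hp2 : p ≠ 2)
    (hF : Fintype.card F = p ^ a) (hk : 1 ≤ k) {L : Type v} [Group L] [IsSimpleGroup L]
    (hL : Nonempty (L ≃* PSp (2 ^ k) F) ∨ Nonempty (L ≃* POmega F (quadFormOdd (2 ^ k) F)))
    (X : Type u) [Group X] [Finite X] (V : Subgroup X) [V.Normal]
    (hVc : ∀ v ∈ V, ∀ w ∈ V, v * w = w * v) (t : ℕ) (ht : t.Prime) (htp : t ≠ p) (hexp : ∀ v ∈ V, v ^ t = 1)
    (e : Nonempty ((X ⧸ V) ≃* L)) (hne : ∃ x : X, ∃ v ∈ V, x * v ≠ v * x) :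
    ∃ x : X, t * ((Fintype.card F ^ 2 ^ k - 1) / 2) ∣ orderOf x := by
  obtain ⟨e⟩ := e
  let eT : (⊤ : Subgroup (X ⧸ V)) ≃* L := Subgroup.topEquiv.trans e
  have hsim : IsSimpleGroup (⊤ : Subgroup (X ⧸ V)) := eT.isSimpleGroup
  obtain ⟨x, v, hv, hxv⟩ := hne
  refine Cfsg.Agent.H327.KR.kstep' hp hp2 hF hk hVc ht htp hexp (⊤ : Subgroup (X ⧸ V)) ?_
    ⟨x, Subgroup.mem_top _, v, hv, hxv⟩
  exact hL.imp (fun f => ⟨eT.trans f.some⟩) (fun f => ⟨eT.trans f.some⟩)

/-- **From the composition factor to the group.** -/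
theorem asm {F : Type w} [Field F] [Fintype F] {p a k : ℕ} (hp : p.Prime) (hp2 : p ≠ 2) (ha : Odd a)
    (hF : Fintype.card F = p ^ a) (hk : 3 ≤ k) {G : Type u} [Group G] [Finite G] (hG : GK p (Fintype.card F) k G)
    {K : Subgroup G} [K.Normal] {S : Subgroup (G ⧸ K)} [S.Normal] (hR : Red G K S)
    (hcop : ∀ r : ℕ, r.Prime → r ∣ mn (Fintype.card F) k → ¬ r ∣ Nat.card ↥K ∧ ¬ r ∣ S.index)
    (hS : Nonempty (↥S ≃* PSp (2 ^ k) F) ∨ Nonempty (↥S ≃* POmega F (quadFormOdd (2 ^ k) F))) :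
    Nonempty (G ≃* ↥S) := by
  have hfinQ : Finite (G ⧸ K) := inferInstance
  have htop : S = ⊤ := by
    refine Cfsg.Agent.H767.PO.eq_top hR.cent hp hp2 ha hF (by omega) hS ?_ ?_
    · intro r x hr hrm hrx
      obtain ⟨g, rfl⟩ := QuotientGroup.mk'_surjective K x
      have h1 := orderOf_map_dvd (QuotientGroup.mk' K) g
      exact h1.trans (hG.iso r g hr hrm (hrx.trans h1))
    · exact Nat.coprime_of_dvd fun r hr h1 h2 => (hcop r hr h2).2 h1
  have e1 : (G ⧸ K) ≃* ↥S := Subgroup.topEquiv.symm.trans (MulEquiv.subgroupCongr htop.symm)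
  have hsim : IsSimpleGroup ↥S := hR.simple
  have hK : K = ⊥ := by
    refine kbot (a := a) hp2 ha hF hG hR.solv (fun r hr hrm => (hcop r hr hrm).1) e1 ?_ ?_
    · intro W _ _ _ hW φ
      rcases hS with ⟨⟨f⟩⟩ | ⟨⟨f⟩⟩
      · obtain ⟨r, x, w, h1, h2, h3, h4, h5, h6⟩ := Cfsg.Agent.H375.SZ.fixed_psp hp hp2 ha hF (by omega : 1 ≤ k) hW
          (φ.comp f.symm.toMonoidHom)
        exact ⟨r, f.symm x, w, h1, h2, h3, by rw [MulEquiv.orderOf_eq, h4], h5, h6⟩
      · obtain ⟨r, x, w, h1, h2, h3, h4, h5, h6⟩ := Cfsg.Agent.H231.UniZero.fixed_omega hp hp2 ha hF (by omega : 2 ≤ k) hW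
          (φ.comp f.symm.toMonoidHom)
        exact ⟨r, f.symm x, w, h1, h2, h3, by rw [MulEquiv.orderOf_eq, h4], h5, h6⟩
    · intro X _ _ V _ hVc t ht htp hexp e hne
      exact step_of hp hp2 hF (by omega) hS X V hVc t ht htp hexp e hne
  exact ⟨(QuotientGroup.quotientBot (G := G)).symm.trans
    ((QuotientGroup.quotientMulEquivOfEq hK.symm).trans e1)⟩

end Cfsg.Agent.H202.TP
end

-- part: H202/TP/Asm_mg
section

end

-- part: H699/TPOrth_mg
section
prune_inst 0x410000005000000000000100200000030000000000000002080000001004000894200002000000200a000004004002002000000000000000a000000000401000000000000000000000000000000000000000000000000000000000000000000000000000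
set_option linter.all false
open scoped Cfsg.Agent.FastGrp

-- part: H699/TPOrthBase
section
/-!
# Block TP (S3536), orthogonal groups of even dimension: preliminaries (helper699, task 3259)
-/

set_option autoImplicit false
set_option linter.unusedSectionVars false

namespace Cfsg.Agent.H699.TPOrth

open Cfsg.Agent.H202.TP Cfsg.Agent.H94.PG

section

variable {p q k : ℕ} {S : Type*} [Group S]

theorem mn_odd (h : TK p q k S) : Odd (mn q k) := by
  rw [h.mn_eq]
  exact Cfsg.Agent.H202.T.mm_odd h.odd_Q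

theorem exists_prime (h : TK p q k S) : ∃ r : ℕ, r.Prime ∧ r ∣ mn q k := by
  apply Nat.exists_prime_and_dvd
  have := h.mn_ge
  omega

/-- **The main principle.** -/
theorem eq_of (h : TK p q k S) {N r : ℕ} (hr : r.Prime) (hrm : r ∣ mn q k) (hrN : r ∣ N)
    (hN : ∃ x : S, orderOf x = N)
    (hv : ∀ s i : ℕ, s.Prime → s ∣ mn q k → 1 ≤ i → s ^ i ∣ Nat.card S → s ^ i ∣ N) : N = mn q k := by
  obtain ⟨x, rfl⟩ := hN
  have h0 : mn q k ≠ 0 := by
    have := h.mn_ge
    omega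
  have hd := h.iso r x hr hrm hrN
  have hx0 : orderOf x ≠ 0 := by
    intro h4
    rw [h4] at hd
    exact h0 (Nat.eq_zero_of_zero_dvd hd)
  apply Nat.dvd_antisymm hd
  rw [← Nat.factorization_prime_le_iff_dvd h0 hx0]
  intro s hs
  by_cases hsm : s ∣ mn q k
  · have h1 : s ^ (mn q k).factorization s ∣ mn q k := Nat.ordProj_dvd _ _
    have h2 : 1 ≤ (mn q k).factorization s := (hs.dvd_iff_one_le_factorization h0).1 hsm
    have h3 := hv s _ hs hsm h2 (h1.trans h.dvd_card)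
    exact (hs.pow_dvd_iff_le_factorization hx0).1 h3
  · rw [Nat.factorization_eq_zero_of_not_dvd hsm]
    exact Nat.zero_le _

variable [Finite S]

theorem adj (h : TK p q k S) {r s : ℕ} (hrm : r ∣ mn q k) (ha : Adj S r s) : s ∣ mn q k := by
  obtain ⟨hr, hs, hne, x, y, hx, hy, hxy⟩ := ha
  have h1 : orderOf (x * y) = r * s := by
    rw [hxy.orderOf_mul_eq_mul_orderOf_of_coprime (by rw [hx, hy]; exact (Nat.coprime_primes hr hs).2 hne), hx, hy]
  have h2 := h.iso r (x * y) hr hrm (by rw [h1]; exact Dvd.intro _ rfl)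
  rw [h1] at h2
  exact (Dvd.intro_left _ rfl : s ∣ r * s).trans h2

theorem conn (h : TK p q k S) {r s : ℕ} (hrm : r ∣ mn q k) (hc : Conn S r s) : s ∣ mn q k := by
  unfold Conn at hc
  induction hc with
  | refl => exact hrm
  | tail _ hbc ih => exact adj h ih hbc

/-- the prime divisors of `mn q k` are not connected with `2` -/
theorem not_conn (h : TK p q k S) {r : ℕ} (hrm : r ∣ mn q k) : ¬ Conn S r 2 := fun hc =>
  h.ne_two_of_dvd (conn h hrm hc) rfl

end

/-! ### Arithmetic -/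

theorem exists_two_pow {A : ℕ} (hA : A ≠ 0) : ∃ t, 2 ^ t ∣ A ∧ ¬ 2 ^ (t + 1) ∣ A := by
  refine ⟨A.factorization 2, Nat.ordProj_dvd _ _, ?_⟩
  exact Nat.pow_succ_factorization_not_dvd hA Nat.prime_two

/-- the 2-part: `4 (m - 1) = c A`, `c` odd and an element of order `A / 2` -/
theorem two_four {m A c : ℕ} (hc : Odd c) (hA : A ≠ 0) (hA2 : 4 ∣ A) (h : 4 * (m - 1) = c * A)
    (htwo : ∀ j, 2 ^ j ∣ A / 2 → 2 ^ j ∣ m - 1) : False := by
  obtain ⟨t, ht, ht'⟩ := exists_two_pow hA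
  have ht2 : 2 ≤ t := by
    by_contra hlt
    apply ht'
    refine (pow_dvd_pow 2 (show t + 1 ≤ 2 by omega)).trans ?_
    exact hA2
  obtain ⟨s, rfl⟩ : ∃ s, t = s + 1 := ⟨t - 1, by omega⟩
  have h1 : 2 ^ s ∣ A / 2 := by
    obtain ⟨b, rfl⟩ := ht
    rw [pow_succ, mul_assoc, mul_comm 2 b, ← mul_assoc, Nat.mul_div_cancel _ (by norm_num)]
    exact dvd_mul_right _ _
  have h2 := htwo s h1
  apply ht'
  have h3 : 2 ^ (s + 1 + 1) ∣ c * A := by
    rw [← h]
    obtain ⟨b, hb⟩ := h2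
    rw [hb]
    exact ⟨b, by ring⟩
  exact (Nat.Coprime.pow_left _ (Nat.coprime_two_left.2 hc)).dvd_of_dvd_mul_left h3

theorem val_three {n : ℕ} (hn : n ≠ 0) (he : Even n) : padicValNat 2 (3 ^ n - 1) = 2 + padicValNat 2 n := by
  have h := padicValNat.pow_two_sub_one (x := 3) (by norm_num) (by norm_num) hn he
  have h4 : padicValNat 2 (3 + 1) = 2 := by
    have : (3 + 1 : ℕ) = 2 ^ 2 := by norm_num
    rw [this, padicValNat.prime_pow]
  have h2 : padicValNat 2 (3 - 1) = 1 := by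
    have : (3 - 1 : ℕ) = 2 ^ 1 := by norm_num
    rw [this, padicValNat.prime_pow]
  omega

/-- `3 ^ (2 ^ v + 1) - 2` is not a power with exponent divisible by 4 -/
theorem three_pow_ne {q v k : ℕ} (hv : 1 ≤ v) (hk : 2 ≤ k) (h : 3 ^ (2 ^ v + 1) = q ^ 2 ^ k + 2) : False := by
  obtain ⟨a, rfl⟩ : ∃ a, k = a + 2 := ⟨k - 2, by omega⟩
  have hQ : q ^ 2 ^ (a + 2) = (q ^ 2 ^ a) ^ 4 := by
    rw [← pow_mul, pow_add]
    norm_num
  rw [hQ] at h
  set Q := q ^ 2 ^ a
  rcases Nat.even_or_odd v with ⟨w, hw⟩ | ⟨w, hw⟩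
  · -- modulo 7
    obtain ⟨z, hz⟩ : ∃ z, 2 ^ v = 6 * z + 4 := by
      have h4 : 4 ^ w % 6 = 4 := by
        obtain ⟨w', rfl⟩ : ∃ w', w = w' + 1 := ⟨w - 1, by omega⟩
        induction w' with
        | zero => norm_num
        | succ w' ih =>
          have e : 4 ^ (w' + 1 + 1) = 4 ^ (w' + 1) * 4 := pow_succ _ _
          have : 4 ^ (w' + 1) % 6 = 4 := by
            clear ih hw h e
            induction w' with
            | zero => norm_num
            | succ w' ih => rw [pow_succ, Nat.mul_mod, ih]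
          omega
      have e : 2 ^ v = 4 ^ w := by
        rw [hw, ← two_mul, pow_mul]
        norm_num
      exact ⟨4 ^ w / 6, by omega⟩
    have h7 : 3 ^ (2 ^ v + 1) % 7 = 5 := by
      rw [hz]
      have e : 6 * z + 4 + 1 = 6 * z + 5 := by ring
      rw [e, pow_add, pow_mul, Nat.mul_mod, Nat.pow_mod]
      norm_num
    have h8 : Q ^ 4 % 7 = 3 := by omega
    have h9 : Q ^ 4 % 7 = (Q % 7) ^ 4 % 7 := Nat.pow_mod _ _ _
    have h10 : Q % 7 < 7 := Nat.mod_lt _ (by norm_num)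
    interval_cases hh : Q % 7 <;> (clear * - h8 h9; omega)
  · -- modulo 13
    obtain ⟨z, hz⟩ : ∃ z, 2 ^ v = 3 * z + 2 := by
      have e : 2 ^ v = 4 ^ w * 2 := by
        rw [hw, pow_succ, pow_mul]
        norm_num
      have h4 : 4 ^ w % 3 = 1 := by
        rw [Nat.pow_mod]
        norm_num
      exact ⟨(4 ^ w * 2) / 3, by omega⟩
    have h7 : 3 ^ (2 ^ v + 1) % 13 = 1 := by
      rw [hz]
      have e : 3 * z + 2 + 1 = 3 * (z + 1) := by ring
      rw [e, pow_mul, Nat.pow_mod]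
      norm_num
    have h8 : Q ^ 4 % 13 = 12 := by omega
    have h9 : Q ^ 4 % 13 = (Q % 13) ^ 4 % 13 := Nat.pow_mod _ _ _
    have h10 : Q % 13 < 13 := Nat.mod_lt _ (by norm_num)
    interval_cases hh : Q % 13 <;> (clear * - h8 h9; omega)

/-- the 2-part in the case `2 m = 3 ^ j - 1` -/
theorem two_two {m j q k : ℕ} (hj : Odd j) (hj3 : 3 ≤ j) (hk : 2 ≤ k) (h : 2 * m + 1 = 3 ^ j)
    (hm : 2 * m = q ^ 2 ^ k + 1) (htwo : ∀ i, 1 ≤ i → i < j → ∀ a, 2 ^ a ∣ (3 ^ i - 1) / 2 → 2 ^ a ∣ m - 1) : False := by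
  obtain ⟨l, hl⟩ := hj
  have hj0 : j - 1 ≠ 0 := by omega
  have hje : Even (j - 1) := ⟨l, by omega⟩
  set v := padicValNat 2 (j - 1) with hv
  have hv1 : 1 ≤ v := by
    have : 2 ^ 1 ∣ j - 1 := by rw [pow_one]; exact hje.two_dvd
    exact (padicValNat_dvd_iff_le hj0).1 this
  have hvd : 2 ^ v ∣ j - 1 := pow_padicValNat_dvd
  have hle := Nat.le_of_dvd (by omega) hvd
  by_cases he : j - 1 = 2 ^ v
  · refine three_pow_ne (q := q) (k := k) hv1 hk ?_
    rw [← he, show j - 1 + 1 = j by omega, ← h, hm]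
  · -- the exponent `2 ^ (v + 1)`
    obtain ⟨c, hc⟩ := hvd
    have hc2 : 2 ≤ c := by
      rcases c with _ | _ | c
      · omega
      · omega
      · omega
    have hi : 2 ^ (v + 1) < j := by
      have : 2 ^ v * 2 ≤ 2 ^ v * c := Nat.mul_le_mul_left _ hc2
      rw [pow_succ]
      omega
    have h1 : padicValNat 2 (3 ^ 2 ^ (v + 1) - 1) = v + 3 := by
      rw [val_three (by positivity) ⟨2 ^ v, by rw [pow_succ]; ring⟩, padicValNat.prime_pow]
      omega
    have h2 : 2 ^ (v + 3) ∣ 3 ^ 2 ^ (v + 1) - 1 := by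
      rw [← h1]
      exact pow_padicValNat_dvd
    have h3 : 2 ^ (v + 2) ∣ (3 ^ 2 ^ (v + 1) - 1) / 2 := by
      obtain ⟨b, hb⟩ := h2
      rw [hb, show 2 ^ (v + 3) * b = 2 ^ (v + 2) * b * 2 by ring, Nat.mul_div_cancel _ (by norm_num)]
      exact dvd_mul_right _ _
    have h4 := htwo _ Nat.one_le_two_pow hi _ h3
    -- the valuation of `m - 1`
    have h5 : 2 * (m - 1) = 3 * (3 ^ (j - 1) - 1) := by
      have e : 3 ^ j = 3 * 3 ^ (j - 1) := by
        conv_lhs => rw [show j = j - 1 + 1 by omega]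
        rw [pow_succ]
        ring
      (clear * - h e; omega)
    have h6 : 2 ^ (v + 3) ∣ 3 * (3 ^ (j - 1) - 1) := by
      rw [← h5]
      obtain ⟨b, hb⟩ := h4
      rw [hb]
      exact ⟨b, by ring⟩
    have h7 : 2 ^ (v + 3) ∣ 3 ^ (j - 1) - 1 :=
      (Nat.Coprime.pow_left _ (by norm_num : Nat.Coprime 2 3)).dvd_of_dvd_mul_left h6
    have h8 : 3 ^ (j - 1) - 1 ≠ 0 := by
      have : 3 ^ 1 ≤ 3 ^ (j - 1) := Nat.pow_le_pow_right (by norm_num) (by (clear * - hj3 hm hl hle he hc; omega))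
      omega
    have h9 := (padicValNat_dvd_iff_le h8).1 h7
    rw [val_three hj0 hje] at h9
    omega

end Cfsg.Agent.H699.TPOrth
end

-- part: H699/TPOrthMain
section
/-!
# Block TP (S3536), orthogonal groups of even dimension: the elimination (helper699, task 3259; after H901/TOrthMain)
-/

set_option autoImplicit false
set_option linter.unusedSectionVars false

namespace Cfsg.Agent.H699.TPOrth

open QuadraticMap
open Cfsg.Agent.LieClassical.OrthCore Cfsg.Agent.LieClassical.OrthForms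
open Cfsg.Agent.H182.Sign Cfsg.Agent.H403.Classify Cfsg.Agent.H182.Orth
open Cfsg.Agent.H94 Cfsg.Agent.H202.TP
open Cfsg.Agent.H901.TOrth (NCf pow_dvd_left pow_dvd_right exists_of_elt exists_of_eltP eltP_extend pow_two_of
  mix_two mix_three not_even_pow pow_mod_three pow_mod_five pow_pred)

section

variable {F : Type*} [Field F] [Finite F] {ι : Type} [Fintype ι] [DecidableEq ι] {Q : QuadraticForm F (ι → F)}
  {n p q k : ℕ} {ε : ℤ}

theorem ncf (hQ : Sg Q n ε) (hn : 4 ≤ n) (h : TK p q k (Cfsg.POmega F ⇑Q)) {r : ℕ} (hr : r.Prime)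
    (hrm : r ∣ mn q k) : NCf (Nat.card F) n r := by
  have hr2 := h.ne_two_of_dvd hrm
  have hc : ¬ PG.Conn (Cfsg.POmega F ⇑Q) 2 r := fun hc => not_conn h hrm hc.symm
  exact ⟨hr, hr2, fun h1 => hc (conn_two_of_dvd_card hQ hn hr hr2 h1),
    fun i h1 h2 h3 => hc (conn_two_pow_sub hQ hn h1 h2 hr hr2 h3),
    fun i h1 h2 h3 => hc (conn_two_pow_add hQ hn h1 h2 hr hr2 h3)⟩

/-- The main principle for the element of a torus. -/
theorem eq_of_torus (h : TK p q k (Cfsg.POmega F ⇑Q)) {M c r : ℕ} {s : Cfsg.POmega F ⇑Q} (hM : M = 2 ^ c * orderOf s)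
    (hr : r.Prime) (hrm : r ∣ mn q k) (hrM : r ∣ M)
    (hv : ∀ s i : ℕ, s.Prime → s ∣ mn q k → s ^ i ∣ Nat.card (Cfsg.POmega F ⇑Q) → s ^ i ∣ M) :
    orderOf s = mn q k := by
  have h2 : ∀ {t : ℕ}, t.Prime → t ∣ mn q k → ¬ t ∣ 2 ^ c := fun ht htm htd =>
    h.ne_two_of_dvd htm ((Nat.prime_dvd_prime_iff_eq ht Nat.prime_two).1 (ht.dvd_of_dvd_pow htd))
  refine eq_of h hr hrm ?_ ⟨s, rfl⟩ ?_
  · rw [hM] at hrM
    exact ((Nat.Prime.dvd_mul hr).1 hrM).resolve_left (h2 hr hrm)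
  · intro t i ht htm _ hi
    have h3 := hv t i ht htm hi
    rw [hM] at h3
    exact pow_dvd_right ht h3 (h2 ht htm)

end

section plus

variable {F : Type*} [Field F] [Finite F] {ι : Type} [Fintype ι] [DecidableEq ι] {Q : QuadraticForm F (ι → F)}
  {n p q k : ℕ}

/-- The element of the torus of smaller exponent. -/
theorem sub_torus (hQ : Sg Q n 1 ∨ Sg Q n (-1)) (hn : 4 ≤ n) (h : TK p q k (Cfsg.POmega F ⇑Q)) (ho : Odd (Nat.card F))
    {i : ℕ} (hi : 1 ≤ i) (hin : i < n) (a : ℕ) (ha : 2 ^ a ∣ (Nat.card F ^ i - 1) / 2) : 2 ^ a ∣ mn q k - 1 := by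
  have h1 : Elt F i 1 (Nat.card F ^ i - 1) := elt_tor_plus hi dvd_rfl
  have hE : ∃ s : Cfsg.POmega F ⇑Q, orderOf s = (Nat.card F ^ i - 1) / (Nat.card F ^ i - 1).gcd 2 := by
    rcases hQ with hQ | hQ
    · exact Cfsg.Agent.H901.TOrth.exists_of_eltP hQ (by omega) (eltP_extend h1 (m := n) hin (Or.inl rfl) (Or.inl rfl))
    · exact Cfsg.Agent.H901.TOrth.exists_of_eltP hQ (by omega) (eltP_extend h1 (m := n) hin (Or.inl rfl) (Or.inr rfl))
  obtain ⟨s, hs⟩ := hE
  have h2 : (Nat.card F ^ i - 1).gcd 2 = 2 := by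
    apply Nat.gcd_eq_right
    obtain ⟨b, hb⟩ := (ho.pow : Odd (Nat.card F ^ i))
    exact ⟨b, by omega⟩
  rw [h2] at hs
  exact h.two a s (by rw [hs]; exact ha)

theorem plus_false (hQ : Sg Q n 1) (hn : 4 ≤ n) {g : ℕ}
    (hcard : g * Nat.card (Cfsg.POmega F ⇑Q) = Nat.card F ^ (n * (n - 1)) * (Nat.card F ^ n - 1) *
      ∏ i ∈ Finset.range (n - 1), (Nat.card F ^ (2 * (i + 1)) - 1))
    (h : TK p q k (Cfsg.POmega F ⇑Q)) : False := by
  have hu : 1 < Nat.card F := Finite.one_lt_card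
  have hsub := fun ho i => @sub_torus F _ _ ι _ _ Q n p q k (Or.inl hQ) hn h ho i
  set u := Nat.card F with hudef
  have hodd := h.odd
  have h8 := h.mn_mod
  have hm2 := two_mn h.hk2 hodd
  have h3q := h.three_le
  have hge := h.mn_ge
  obtain ⟨r₀, hr₀, hrm₀⟩ := exists_prime h
  -- the exponent
  obtain ⟨j, hjo, hj3, hjn, hR⟩ : ∃ j, Odd j ∧ 3 ≤ j ∧ (j = n ∨ j = n - 1) ∧
      ∀ r, r.Prime → r ∣ mn q k → r ∣ u ^ j - 1 := by
    have key : ∀ r, r.Prime → r ∣ mn q k → (Odd (n - 1) ∧ r ∣ u ^ (n - 1) - 1) ∨ (Odd n ∧ r ∣ u ^ n - 1) := by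
      intro r hr hrm
      rcases plus_cases hQ hn hcard hr (h.ne_two_of_dvd hrm) (hrm.trans h.dvd_card) with h1 | ⟨h1, h2, -⟩ | h1
      · exact absurd h1.symm (not_conn h hrm)
      · exact Or.inl ⟨h1, h2⟩
      · exact Or.inr h1
    rcases Nat.even_or_odd n with he | ho
    · refine ⟨n - 1, ?_, ?_, Or.inr rfl, fun r hr hrm => ?_⟩
      · obtain ⟨m, hm⟩ := he
        exact ⟨m - 1, by omega⟩
      · omega
      · rcases key r hr hrm with ⟨-, h1⟩ | ⟨h1, -⟩
        · exact h1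
        · exact absurd he (Nat.not_even_iff_odd.2 h1)
    · refine ⟨n, ho, by omega, Or.inl rfl, fun r hr hrm => ?_⟩
      rcases key r hr hrm with ⟨h1, -⟩ | ⟨-, h1⟩
      · exfalso
        obtain ⟨a, ha⟩ := ho
        obtain ⟨b, hb⟩ := h1
        omega
      · exact h1
  have hjle : j ≤ n := by omega
  have hv : ∀ s i : ℕ, s.Prime → s ∣ mn q k → s ^ i ∣ Nat.card (Cfsg.POmega F ⇑Q) → s ^ i ∣ u ^ j - 1 := by
    intro s i hs hsm hi
    have hN := ncf hQ hn h hs hsm
    have h1 := hN.pow_dvd hn hcard hi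
    have hj := hR s hs hsm
    obtain ⟨x1, -, x3⟩ := hN.excl hu.le (by omega)
    rcases hjn with rfl | rfl
    · exact pow_dvd_left hs h1 (fun h2 => ((Nat.Prime.dvd_mul hs).1 h2).elim (x1 hj).2 (x1 hj).1)
    · exact pow_dvd_right hs (pow_dvd_right hs h1 (fun h2 => (x1 h2).1 hj)) (x3 hj)
  -- the torus
  have hE : Elt F n 1 (u ^ j - 1) := by
    have h1 : Elt F j 1 (u ^ j - 1) := elt_tor_plus (by omega) dvd_rfl
    rcases hjn with rfl | rfl
    · exact h1
    · exact h1.extend (by omega) (Or.inl rfl) (Or.inl rfl)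
  obtain ⟨s, c, hc, hs⟩ := exists_of_elt hQ (by omega) hE
  have hsm := eq_of_torus h hs hr₀ hrm₀ (hR r₀ hr₀ hrm₀) hv
  rw [hsm] at hs
  have huj : 1 ≤ u ^ j := Nat.one_le_pow _ _ (by omega)
  rcases Nat.even_or_odd u with he | ho
  · have h1 : 8 ∣ u ^ j := by
      have h2 : 2 ^ 3 ∣ u ^ 3 := pow_dvd_pow_of_dvd he.two_dvd 3
      exact h2.trans (pow_dvd_pow u hj3)
    interval_cases c <;> (clear * - h8 h1 hs huj; omega)
  · -- `u - 1` is a power of two
    have hprimes : ∀ r, r.Prime → r ∣ u - 1 → r = 2 := by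
      intro r hr hrd
      by_contra hr2
      have h1 : r ∣ u ^ j - 1 := hrd.trans (by simpa only [_root_.one_pow] using Nat.sub_dvd_pow_sub_pow u 1 j)
      rw [hs] at h1
      have hrm : r ∣ mn q k := ((Nat.Prime.dvd_mul hr).1 h1).resolve_left fun h2 =>
        hr2 ((Nat.prime_dvd_prime_iff_eq hr Nat.prime_two).1 (hr.dvd_of_dvd_pow h2))
      exact (ncf hQ hn h hr hrm).sub 1 le_rfl (by omega) (by rwa [pow_one])
    obtain ⟨b, hb, hub⟩ := pow_two_of (w := u - 1) (c := c) (m := mn q k) (by omega) hprimes (by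
      rw [← hs]
      simpa only [_root_.one_pow] using Nat.sub_dvd_pow_sub_pow u 1 j) (mn_odd h)
    have hb2 : b = 1 ∨ b = 2 := by
      have hb0 : b ≠ 0 := by
        rintro rfl
        rw [pow_zero] at hub
        obtain ⟨a, ha⟩ := ho
        omega
      omega
    rcases hb2 with rfl | rfl
    · have hu3 : u = 3 := by omega
      rw [hu3] at hs
      have h5 := pow_mod_three hjo
      have h6 : 2 * mn q k + 1 = 3 ^ j := by
        interval_cases c
        all_goals (clear * - h8 hs h5; omega)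
      refine two_two hjo hj3 h.hk2 h6 hm2 fun i hi hij a ha => ?_
      exact hsub ho i hi (by omega) a (by rw [hu3]; exact ha)
    · have hu5 : u = 5 := by omega
      rw [hu5] at hs
      have h5 := pow_mod_five hjo
      have h6 : 4 * mn q k + 1 = 5 ^ j := by
        interval_cases c <;> (clear * - h8 hs; omega)
      have e : 5 ^ j = 5 * 5 ^ (j - 1) := pow_pred (by omega)
      have h7 : 5 ^ 1 ≤ 5 ^ (j - 1) := Nat.pow_le_pow_right (by norm_num) (by omega)
      refine two_four (m := mn q k) (A := 5 ^ (j - 1) - 1) (c := 5) (by decide) (by (clear * - hge h6 e; omega)) ?_ (by (clear * - h6 e; omega)) fun a ha => ?_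
      · simpa only [_root_.Nat.add_one_sub_one, _root_.one_pow] using Nat.sub_dvd_pow_sub_pow 5 1 (j - 1)
      · exact hsub ho (j - 1) (by omega) (by omega) a (by rw [hu5]; exact ha)

end plus

section minus

variable {F : Type*} [Field F] [Finite F] {ι : Type} [Fintype ι] [DecidableEq ι] {Q : QuadraticForm F (ι → F)}
  {n p q k : ℕ}

theorem minus_false (hQ : Sg Q n (-1)) (hn : 4 ≤ n) (hpp : ∀ r s, r.Prime → s.Prime → r ∣ Nat.card F →
      s ∣ Nat.card F → r = s) {g : ℕ}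
    (hcard : g * Nat.card (Cfsg.POmega F ⇑Q) = Nat.card F ^ (n * (n - 1)) * (Nat.card F ^ n + 1) *
      ∏ i ∈ Finset.range (n - 1), (Nat.card F ^ (2 * (i + 1)) - 1))
    (h : TK p q k (Cfsg.POmega F ⇑Q)) (hv : ¬ p ∣ Nat.card F) : False := by
  have hu : 1 < Nat.card F := Finite.one_lt_card
  have hsub := fun ho i => @sub_torus F _ _ ι _ _ Q n p q k (Or.inr hQ) hn h ho i
  set u := Nat.card F with hudef
  have hodd := h.odd
  have h8 := h.mn_mod
  have hm2 := two_mn h.hk2 hodd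
  have h3q := h.three_le
  have hge := h.mn_ge
  have hoddQ := h.odd_Q
  have hnine := h.nine_le_Q
  have hQ4 := pow_eq h.hk2 q
  obtain ⟨r₀, hr₀, hrm₀⟩ := exists_prime h
  -- `p` divides `q ^ 2 ^ k`
  have hpd : p ∣ q ^ 2 ^ k := h.dvd.trans (dvd_pow_self q (by positivity))
  have hR : ∀ r, r.Prime → r ∣ mn q k → (r ∣ u ^ (n - 1) + 1 ∧ u ≤ 3) ∨ r ∣ u ^ n + 1 := by
    intro r hr hrm
    rcases minus_cases hQ hn hcard hr (h.ne_two_of_dvd hrm) (hrm.trans h.dvd_card) with h1 | h1 | h1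
    · exact absurd h1.symm (not_conn h hrm)
    · exact Or.inl h1
    · exact Or.inr h1
  have hvA : ∀ s i : ℕ, s.Prime → s ∣ mn q k → s ∣ u ^ (n - 1) + 1 → s ^ i ∣ Nat.card (Cfsg.POmega F ⇑Q) →
      s ^ i ∣ u ^ (n - 1) + 1 := by
    intro s i hs hsm hA hi
    have hN := ncf hQ hn h hs hsm
    have h1 := hN.pow_dvd hn hcard hi
    obtain ⟨-, x2, x3⟩ := hN.excl hu.le (by omega)
    exact pow_dvd_left hs (pow_dvd_right hs h1 (fun h2 => (x2 h2).2 hA)) (fun h2 => x3 h2 hA)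
  have hvB : ∀ s i : ℕ, s.Prime → s ∣ mn q k → s ∣ u ^ n + 1 → s ^ i ∣ Nat.card (Cfsg.POmega F ⇑Q) →
      s ^ i ∣ u ^ n + 1 := by
    intro s i hs hsm hB hi
    have hN := ncf hQ hn h hs hsm
    have h1 := hN.pow_dvd hn hcard hi
    obtain ⟨-, x2, -⟩ := hN.excl hu.le (by omega)
    exact pow_dvd_left hs h1 (fun h2 => ((Nat.Prime.dvd_mul hs).1 h2).elim (x2 hB).2 (x2 hB).1)
  -- the two tori
  have hEA : Elt F (n - 1) (-1) (u ^ (n - 1) + 1) := elt_tor_minus (by omega) dvd_rfl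
  obtain ⟨sA, hsA⟩ := Cfsg.Agent.H901.TOrth.exists_of_eltP hQ (by omega) (eltP_extend hEA (m := n) (by omega) (Or.inr rfl) (Or.inr rfl))
  obtain ⟨sB, c, hc, hsB⟩ := exists_of_elt hQ (by omega) (elt_tor_minus (F := F) (k := n) (by omega) dvd_rfl)
  have hmodd := mn_odd h
  -- `A` odd or not
  have hA2 : ∃ d, d ≤ 1 ∧ u ^ (n - 1) + 1 = 2 ^ d * orderOf sA := by
    rcases Nat.even_or_odd (u ^ (n - 1) + 1) with he | ho
    · have h1 : (u ^ (n - 1) + 1).gcd 2 = 2 := Nat.gcd_eq_right he.two_dvd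
      rw [h1] at hsA
      refine ⟨1, le_rfl, ?_⟩
      rw [hsA, pow_one]
      exact (Nat.mul_div_cancel' he.two_dvd).symm
    · have h1 : (u ^ (n - 1) + 1).gcd 2 = 1 := Nat.coprime_two_right.2 ho
      rw [h1, Nat.div_one] at hsA
      exact ⟨0, by norm_num, by rw [hsA, pow_zero, one_mul]⟩
  obtain ⟨d, hd, hsA'⟩ := hA2
  by_cases hB : ∀ r, r.Prime → r ∣ mn q k → r ∣ u ^ n + 1
  · -- all primes divide `u ^ n + 1`
    have hsm := eq_of_torus h hsB hr₀ hrm₀ (hB r₀ hr₀ hrm₀) (fun s i hs hsm => hvB s i hs hsm (hB s hs hsm))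
    change u ^ n + 1 = 2 ^ c * orderOf sB at hsB
    rw [hsm] at hsB
    have hwd : ∀ w, w ≠ 0 → w ∣ u ^ n + 1 → (∀ r, r.Prime → r ∣ mn q k → ¬ r ∣ w) → ∃ b, b ≤ c ∧ w = 2 ^ b := by
      intro w hw hwd hwr
      refine pow_two_of hw (fun r hr hrd => ?_) (by rw [← hsB]; exact hwd) hmodd
      by_contra hr2
      have h1 := hrd.trans hwd
      rw [hsB] at h1
      exact hwr r hr (((Nat.Prime.dvd_mul hr).1 h1).resolve_left fun h2 =>
        hr2 ((Nat.prime_dvd_prime_iff_eq hr Nat.prime_two).1 (hr.dvd_of_dvd_pow h2))) hrd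
    have hadd : Odd n → ∃ b, b ≤ c ∧ u + 1 = 2 ^ b := by
      intro hno
      refine hwd (u + 1) (by omega) (by simpa using hno.nat_add_dvd_pow_add_pow u 1) (fun r hr hrm hrd => ?_)
      exact (ncf hQ hn h hr hrm).add 1 le_rfl (by omega) (by rwa [pow_one])
    rcases Nat.even_or_odd u with he | ho
    · have h1 : Even (u ^ n) := he.pow_of_ne_zero (by omega)
      have hc0 : c = 0 := by
        obtain ⟨a, ha⟩ := h1
        obtain ⟨b, hb⟩ := hmodd
        interval_cases c <;> omega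
      subst hc0
      exact not_even_pow hoddQ (by omega) (fun r hr hrd => hpp r 2 hr Nat.prime_two hrd he.two_dvd) (t := n)
        (by rw [hQ4]; (clear * - hm2 hsB; omega))
    · have h1 : Odd (u ^ n) := ho.pow
      have hc12 : c = 1 ∨ c = 2 := by
        obtain ⟨a, ha⟩ := h1
        have : c ≠ 0 := by
          rintro rfl
          obtain ⟨b, hb⟩ := hmodd
          omega
        omega
      rcases hc12 with rfl | rfl
      · have h2 : u ^ n = q ^ 2 ^ k := by (clear * - hm2 hsB; omega)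
        rw [← h2] at hpd
        exact hv (h.prime.dvd_of_dvd_pow hpd)
      · have hno : Odd n := by
          rw [← Nat.not_even_iff_odd]
          rintro ⟨a, ha⟩
          have h2 : (u ^ 2) % 4 = 1 := by
            obtain ⟨x, hx⟩ := ho
            rw [hx]
            have : (2 * x + 1) ^ 2 = 4 * (x ^ 2 + x) + 1 := by ring
            omega
          have h3 : u ^ n % 4 = 1 := by
            rw [ha, ← two_mul, pow_mul, Nat.pow_mod, h2]
            norm_num
          omega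
        obtain ⟨b, hb, hub⟩ := hadd hno
        have hu3 : u = 3 := by
          interval_cases b <;> omega
        rw [hu3] at hsB
        have h2 : 3 ^ n + 1 = 4 * mn q k := by omega
        have e : 3 ^ n = 3 * 3 ^ (n - 1) := pow_pred (by omega)
        have h7 : 3 ^ 1 ≤ 3 ^ (n - 1) := Nat.pow_le_pow_right (by norm_num) (by omega)
        refine two_four (m := mn q k) (A := 3 ^ (n - 1) - 1) (c := 3) (by decide) (by (clear * - hge hsB e; omega)) ?_ (by (clear * - hsB e; omega))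
          fun a ha => ?_
        · -- `n - 1` is even
          obtain ⟨l, hl⟩ := hno
          have h9 : 3 ^ (n - 1) = 9 ^ l := by
            rw [show n - 1 = 2 * l by (clear * - hl; omega), pow_mul]
            norm_num
          rw [h9]
          exact (show (4 : ℕ) ∣ 9 - 1 by norm_num).trans (by simpa only [_root_.Nat.add_one_sub_one, _root_.one_pow] using Nat.sub_dvd_pow_sub_pow 9 1 l)
        · exact hsub ho (n - 1) (by omega) (by omega) a (by rw [hu3]; exact ha)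
  · -- some prime divides `u ^ (n - 1) + 1`, and `u ≤ 3`
    push Not at hB
    obtain ⟨r₁, hr₁, hrm₁, hr₁B⟩ := hB
    obtain ⟨hr₁A, hu3⟩ := (hR r₁ hr₁ hrm₁).resolve_right hr₁B
    have two_of : ∀ {r t : ℕ}, r.Prime → r ∣ mn q k → ¬ r ∣ 2 ^ t := fun hr hrm h1 =>
      h.ne_two_of_dvd hrm ((Nat.prime_dvd_prime_iff_eq hr Nat.prime_two).1 (hr.dvd_of_dvd_pow h1))
    have hAm : orderOf sA ∣ mn q k := by
      refine h.iso r₁ sA hr₁ hrm₁ ?_
      rw [hsA'] at hr₁A
      exact ((Nat.Prime.dvd_mul hr₁).1 hr₁A).resolve_left (two_of hr₁ hrm₁)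
    have hAodd : Odd (orderOf sA) := Odd.of_dvd_nat hmodd hAm
    by_cases hA : ∀ r, r.Prime → r ∣ mn q k → r ∣ u ^ (n - 1) + 1
    · have hsm := eq_of_torus h hsA' hr₀ hrm₀ (hA r₀ hr₀ hrm₀) (fun s i hs hsm => hvA s i hs hsm (hA s hs hsm))
      rw [hsm] at hsA'
      obtain hu2 | hu3 : u = 2 ∨ u = 3 := by omega
      · have h1 : Even (u ^ (n - 1)) := by
          rw [hu2]
          exact even_two.pow_of_ne_zero (by omega)
        have hd0 : d = 0 := by
          obtain ⟨a, ha⟩ := h1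
          interval_cases d <;> omega
        subst hd0
        exact not_even_pow hoddQ (by omega) (fun r hr hrd => hpp r 2 hr Nat.prime_two hrd (by rw [hu2]))
          (t := n - 1) (by rw [hQ4]; (clear * - hm2 hsA'; omega))
      · have h1 : Odd (u ^ (n - 1)) := Odd.pow (by rw [hu3]; decide)
        have hd1 : d = 1 := by
          obtain ⟨a, ha⟩ := h1
          interval_cases d <;> omega
        subst hd1
        have h2 : u ^ (n - 1) = q ^ 2 ^ k := by (clear * - hm2 hsA'; omega)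
        rw [← h2] at hpd
        exact hv (h.prime.dvd_of_dvd_pow hpd)
    · push Not at hA
      obtain ⟨r₂, hr₂, hrm₂, hr₂A⟩ := hA
      have hr₂B : r₂ ∣ u ^ n + 1 := (hR r₂ hr₂ hrm₂).resolve_left fun h1 => hr₂A h1.1
      change u ^ n + 1 = 2 ^ c * orderOf sB at hsB
      have hBm : orderOf sB ∣ mn q k := by
        refine h.iso r₂ sB hr₂ hrm₂ ?_
        rw [hsB] at hr₂B
        exact ((Nat.Prime.dvd_mul hr₂).1 hr₂B).resolve_left (two_of hr₂ hrm₂)
      have hBodd : Odd (orderOf sB) := Odd.of_dvd_nat hmodd hBm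
      have hcop : Nat.Coprime (orderOf sA) (orderOf sB) := by
        rw [Nat.coprime_iff_gcd_eq_one]
        by_contra hne
        obtain ⟨t, ht, htd⟩ := Nat.exists_prime_and_dvd hne
        have ht1 := htd.trans (Nat.gcd_dvd_left _ _)
        have ht2 := htd.trans (Nat.gcd_dvd_right _ _)
        have htm := ht1.trans hAm
        obtain ⟨-, x2, -⟩ := (ncf hQ hn h ht htm).excl hu.le (by omega)
        refine (x2 ?_).2 ?_
        · change t ∣ u ^ n + 1
          rw [hsB]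
          exact ht2.mul_left _
        · change t ∣ u ^ (n - 1) + 1
          rw [hsA']
          exact ht1.mul_left _
      have hm0 : mn q k ≠ 0 := by omega
      have hmul : mn q k = orderOf sA * orderOf sB := by
        apply Nat.dvd_antisymm
        · rw [← Nat.factorization_prime_le_iff_dvd hm0 (Nat.mul_ne_zero hAodd.pos.ne' hBodd.pos.ne')]
          intro t ht
          by_cases htm : t ∣ mn q k
          · have h1 : t ^ (mn q k).factorization t ∣ mn q k := Nat.ordProj_dvd _ _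
            rw [← ht.pow_dvd_iff_le_factorization (Nat.mul_ne_zero hAodd.pos.ne' hBodd.pos.ne')]
            rcases hR t ht htm with ⟨h2, -⟩ | h2
            · have h3 := hvA t _ ht htm h2 (h1.trans h.dvd_card)
              rw [hsA'] at h3
              exact (pow_dvd_right ht h3 (two_of ht htm)).mul_right _
            · have h3 := hvB t _ ht htm h2 (h1.trans h.dvd_card)
              rw [hsB] at h3
              exact (pow_dvd_right ht h3 (two_of ht htm)).mul_left _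
          · rw [Nat.factorization_eq_zero_of_not_dvd htm]
            exact Nat.zero_le _
        · exact hcop.mul_dvd_of_dvd_of_dvd hAm hBm
      have hpn := pow_pred (a := u) (n := n) (by omega)
      obtain hu2 | hu3 : u = 2 ∨ u = 3 := by omega
      · rw [hu2] at hsA' hsB hpn
        have h1 : Even (2 ^ (n - 1)) := even_two.pow_of_ne_zero (by omega)
        have h2 : Even (2 ^ n) := even_two.pow_of_ne_zero (by omega)
        have hd0 : d = 0 := by
          obtain ⟨a, ha⟩ := h1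
          obtain ⟨b, hb⟩ := hAodd
          interval_cases d <;> omega
        have hc0 : c = 0 := by
          obtain ⟨a, ha⟩ := h2
          obtain ⟨b, hb⟩ := hBodd
          interval_cases c <;> (clear * - ha hsB; omega)
        subst hd0 hc0
        rw [pow_zero, one_mul] at hsA' hsB
        refine mix_two (q := q ^ 2 ^ (k - 2)) (t := 2 ^ (n - 1)) ?_ (by positivity)
        rw [← hpn, hsA', hsB, ← hmul, hm2, hQ4]
      · rw [hu3] at hsA' hsB hpn
        have h1 : Odd (3 ^ (n - 1)) := Odd.pow (by decide)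
        have hd1 : d = 1 := by
          obtain ⟨a, ha⟩ := h1
          obtain ⟨b, hb⟩ := hAodd
          interval_cases d <;> omega
        subst hd1
        have hne : Even (n - 1) := by
          rw [← Nat.not_odd_iff_even]
          intro hno
          have := pow_mod_three hno
          obtain ⟨b, hb⟩ := hAodd
          omega
        have hno : Odd n := by
          obtain ⟨a, ha⟩ := hne
          exact ⟨a, by omega⟩
        have h4 := pow_mod_three hno
        have hc2 : c = 2 := by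
          obtain ⟨b, hb⟩ := hBodd
          interval_cases c <;> omega
        subst hc2
        refine mix_three (q := q ^ 2 ^ (k - 2)) (t := 3 ^ (n - 1)) ?_ ?_
        · rw [← hpn, hsA', hsB]
          calc 2 ^ 1 * orderOf sA * (2 ^ 2 * orderOf sB) = 4 * (2 * (orderOf sA * orderOf sB)) := by ring
            _ = 4 * ((q ^ 2 ^ (k - 2)) ^ 4 + 1) := by rw [← hmul, hm2, hQ4]
        · exact pow_dvd_pow 3 (show 2 ≤ n - 1 by omega)

end minus

end Cfsg.Agent.H699.TPOrth
end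

-- part: H699/TPOrth
section
/-!
# Block TP (S3536): the orthogonal groups of even dimension (helper699, task 3259)
-/

set_option autoImplicit false

namespace Cfsg.Agent.H699.TPOrth

open Cfsg Cfsg.Agent.H202.TP Cfsg.Agent.H436
open Cfsg.Agent.LieClassical.OrthForms Cfsg.Agent.H182.Orth Cfsg.Agent.H403.Classify Cfsg.Agent.H182.Sign

/-- **Plus type.** -/
theorem oplus' {p q k d u : ℕ} {S : Type*} [Group S] (h : TK p q k S) (hg : IsNamed (.oplus d u) S) : False := by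
  obtain ⟨F, iF, iF', hu, ⟨e⟩⟩ := hg.real
  have hn : 4 ≤ d := hg.cond.1
  have hcard := Cfsg.Agent.S0293.result (F := F) rfl d hn
  simp only [← Nat.card_eq_fintype_card] at hcard
  have h1 := h.congr e
  rw [← coe_plusForm] at h1 hcard
  exact plus_false (sg_plusForm (F := F) d) hn hcard h1

/-- **Plus type.** -/
theorem oplus {p q k d u : ℕ} {S : Type*} [Group S] (h : TK p q k S) (hg : IsNamed (.oplus d u) S)
    (_hv : ¬ p ∣ u) : False := oplus' h hg

/-- **Minus type.** -/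
theorem ominus {p q k d u : ℕ} {S : Type*} [Group S] (h : TK p q k S) (hg : IsNamed (.ominus d u) S)
    (hv : ¬ p ∣ u) : False := by
  obtain ⟨F, iF, iF', a, b, hu, hab, ⟨e⟩⟩ := hg.real
  have hn : 4 ≤ d := hg.cond.1
  have hcard := Cfsg.Agent.S0294.result (F := F) rfl d hn a b hab
  simp only [← Nat.card_eq_fintype_card] at hcard
  have h1 := h.congr e
  rw [← coe_minusForm] at h1 hcard
  have hs := sg_minusForm (F := F) (d - 1) hab
  rw [Nat.sub_add_cancel (by omega)] at hs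
  have hpp : ∀ r s, r.Prime → s.Prime → r ∣ Nat.card F → s ∣ Nat.card F → r = s := by
    obtain ⟨t, ht, hF⟩ := FiniteField.card F (ringChar F)
    intro r s hr hs hrd hsd
    rw [Nat.card_eq_fintype_card, hF] at hrd hsd
    rw [(Nat.prime_dvd_prime_iff_eq hr ht).1 (hr.dvd_of_dvd_pow hrd),
      (Nat.prime_dvd_prime_iff_eq hs ht).1 (hs.dvd_of_dvd_pow hsd)]
  exact minus_false hs hn hpp hcard h1 (by rwa [Nat.card_eq_fintype_card, hu])

end Cfsg.Agent.H699.TPOrth
end

-- part: H202/TP/Budget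
section
/-!
# Block TP (S3536): the eigenvalue lemma BUDGET (helper202)

`Cl q R` : the finite set `R` of nonzero elements of a field is closed under `x ↦ x ^ q` (injective on `R`) and inversion.

* `Cl.exists_period` : the length `l` of the orbit of `x ∈ R`: `x ^ q ^ j = x ↔ l ∣ j`;
* `Cl.orbit` : the orbit `O` as a finset of cardinality `l`, and the dichotomy: `x⁻¹ ∉ O`, `2 l ≤ |R|`, or
  `x ^ (q ^ (l / 2) + 1) = 1` or `x ^ 2 = 1`;
* `budget` : if `|R| ≤ 2 ^ (k + 1)`, `k ≥ 2`, and for every `1 ≤ i < k` some element of `R` has order divisible by an odd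
  prime divisor of `q ^ 2 ^ i + 1`, then `x ^ (q ^ 2 ^ k - 1) = 1` for all `x ∈ R`.
-/

set_option autoImplicit false

namespace Cfsg.Agent.H202.TP

variable {K : Type*} [Field K] {q : ℕ}

structure Cl (q : ℕ) (R : Finset K) : Prop where
  ne : ∀ x ∈ R, x ≠ 0
  frob : ∀ x ∈ R, x ^ q ∈ R
  inv : ∀ x ∈ R, x⁻¹ ∈ R
  inj : ∀ x ∈ R, ∀ y ∈ R, x ^ q = y ^ q → x = y

variable {R : Finset K}

theorem Cl.pow_mem (h : Cl q R) {x : K} (hx : x ∈ R) (j : ℕ) : x ^ q ^ j ∈ R := by
  induction j with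
  | zero => simpa using hx
  | succ j ih =>
    rw [pow_succ, pow_mul]
    exact h.frob _ ih

theorem Cl.cancel (h : Cl q R) {x y : K} (hx : x ∈ R) (hy : y ∈ R) (i : ℕ) (he : x ^ q ^ i = y ^ q ^ i) : x = y := by
  induction i with
  | zero => simpa using he
  | succ i ih =>
    rw [pow_succ, pow_mul, pow_mul] at he
    exact ih (h.inj _ (h.pow_mem hx i) _ (h.pow_mem hy i) he)

/-- the length of the orbit -/
theorem Cl.exists_period (h : Cl q R) {x : K} (hx : x ∈ R) : ∃ l : ℕ, 0 < l ∧ ∀ j, x ^ q ^ j = x ↔ l ∣ j := by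
  have hit : ∀ j, (fun y : K => y ^ q)^[j] x = x ^ q ^ j := fun j => by rw [pow_iterate]
  refine ⟨Function.minimalPeriod (fun y : K => y ^ q) x, ?_, ?_⟩
  · apply Function.minimalPeriod_pos_of_mem_periodicPts
    obtain ⟨i, j, hij, he⟩ := Finite.exists_ne_map_eq_of_infinite
      (fun j : ℕ => (⟨x ^ q ^ j, h.pow_mem hx j⟩ : {y // y ∈ R}))
    have he' : x ^ q ^ i = x ^ q ^ j := congrArg Subtype.val he
    have key : ∀ i j : ℕ, i < j → x ^ q ^ i = x ^ q ^ j → x ∈ Function.periodicPts (fun y : K => y ^ q) := by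
      intro i j hij he
      obtain ⟨d, rfl⟩ : ∃ d, j = d + i := ⟨j - i, by omega⟩
      rw [pow_add, pow_mul] at he
      have h1 := h.cancel hx (h.pow_mem hx d) i he
      exact Function.mk_mem_periodicPts (n := d) (by omega) (by
        change (fun y : K => y ^ q)^[d] x = x
        rw [hit, ← h1])
    rcases lt_or_gt_of_ne hij with h1 | h1
    · exact key i j h1 he'
    · exact key j i h1 he'.symm
  · intro j
    rw [← Function.isPeriodicPt_iff_minimalPeriod_dvd]
    change _ ↔ (fun y : K => y ^ q)^[j] x = x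
    rw [hit]

theorem pow_sub_one_iff {x : K} (hx : x ≠ 0) {N : ℕ} (hN : 1 ≤ N) : x ^ (N - 1) = 1 ↔ x ^ N = x := by
  obtain ⟨M, rfl⟩ : ∃ M, N = M + 1 := ⟨N - 1, by omega⟩
  rw [Nat.add_sub_cancel, pow_succ]
  exact ⟨fun h => by rw [h, one_mul], fun h => mul_right_cancel₀ hx (by rw [h, one_mul])⟩

/-- **The orbit.** -/
theorem Cl.orbit [DecidableEq K] (h : Cl q R) {x : K} (hx : x ∈ R) {l : ℕ} (hl : 0 < l) (hlx : ∀ j, x ^ q ^ j = x ↔ l ∣ j) :
    ((Finset.range l).image fun j => x ^ q ^ j).card = l ∧ ((Finset.range l).image fun j => x ^ q ^ j) ⊆ R ∧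
      (∀ j, x ^ q ^ j ∈ ((Finset.range l).image fun j => x ^ q ^ j)) := by
  have hadd : ∀ i j, x ^ q ^ (i + j) = (x ^ q ^ i) ^ q ^ j := fun i j => by rw [pow_add, pow_mul]
  refine ⟨?_, ?_, ?_⟩
  · rw [Finset.card_image_of_injOn, Finset.card_range]
    have key : ∀ i j : ℕ, i < j → j < l → x ^ q ^ i = x ^ q ^ j → False := by
      intro i j hij hj he
      obtain ⟨d, rfl⟩ : ∃ d, j = d + i := ⟨j - i, by omega⟩
      rw [hadd] at he
      have h1 := h.cancel hx (h.pow_mem hx d) i he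
      have h2 := Nat.le_of_dvd (by omega) ((hlx d).1 h1.symm)
      omega
    intro i hi j hj he
    simp only [Finset.coe_range, Set.mem_Iio] at hi hj
    rcases lt_trichotomy i j with h1 | h1 | h1
    · exact (key i j h1 hj he).elim
    · exact h1
    · exact (key j i h1 hi he.symm).elim
  · intro y hy
    obtain ⟨j, -, rfl⟩ := Finset.mem_image.1 hy
    exact h.pow_mem hx j
  · intro j
    refine Finset.mem_image.2 ⟨j % l, Finset.mem_range.2 (Nat.mod_lt _ hl), ?_⟩
    change x ^ q ^ (j % l) = x ^ q ^ j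
    conv_rhs => rw [← Nat.div_add_mod j l, hadd, (hlx (l * (j / l))).2 (dvd_mul_right _ _)]

/-- the inverse -/
theorem Cl.inv_dichotomy [DecidableEq K] (h : Cl q R) {x : K} (hx : x ∈ R) {l : ℕ} (hl : 0 < l)
    (hlx : ∀ j, x ^ q ^ j = x ↔ l ∣ j) (hq : 1 ≤ q) :
    (x⁻¹ ∈ ((Finset.range l).image fun j => x ^ q ^ j) ∧ (x ^ 2 = 1 ∨ ∃ j, l = 2 * j ∧ x ^ (q ^ j + 1) = 1)) ∨
      (x⁻¹ ∉ ((Finset.range l).image fun j => x ^ q ^ j) ∧
        (((Finset.range l).image fun j => x ^ q ^ j) ∪ ((Finset.range l).image fun j => (x⁻¹) ^ q ^ j)).card = 2 * l ∧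
        (((Finset.range l).image fun j => x ^ q ^ j) ∪ ((Finset.range l).image fun j => (x⁻¹) ^ q ^ j)) ⊆ R) := by
  have hx0 := h.ne x hx
  obtain ⟨hc, hR, hm⟩ := h.orbit hx hl hlx
  by_cases hin : x⁻¹ ∈ ((Finset.range l).image fun j => x ^ q ^ j)
  · left
    refine ⟨hin, ?_⟩
    obtain ⟨j, hj, he⟩ := Finset.mem_image.1 hin
    rw [Finset.mem_range] at hj
    change x ^ q ^ j = x⁻¹ at he
    have h1 : x ^ q ^ (j + j) = x := by
      rw [pow_add, pow_mul, he, inv_pow, he, inv_inv]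
    have h2 := (hlx _).1 h1
    obtain ⟨c, hc2⟩ := h2
    rcases Nat.eq_zero_or_pos j with h0 | h0
    · left
      subst h0
      rw [pow_zero, pow_one] at he
      rw [pow_two]
      nth_rw 1 [he]
      exact inv_mul_cancel₀ hx0
    · right
      refine ⟨j, ?_, ?_⟩
      · have : c = 1 := by
          by_contra hne
          rcases Nat.lt_or_ge c 1 with h3 | h3
          · have : c = 0 := by omega
            subst this
            omega
          · have : l * 2 ≤ l * c := Nat.mul_le_mul_left _ (by omega)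
            omega
        subst this
        omega
      · rw [pow_succ, he]
        exact inv_mul_cancel₀ hx0
  · right
    refine ⟨hin, ?_, ?_⟩
    · have hlx' : ∀ j, (x⁻¹) ^ q ^ j = x⁻¹ ↔ l ∣ j := fun j => by
        rw [inv_pow, inv_inj]
        exact hlx j
      obtain ⟨hc', hR', hm'⟩ := h.orbit (h.inv x hx) hl hlx'
      rw [Finset.card_union_of_disjoint, hc, hc']
      · ring
      · rw [Finset.disjoint_left]
        intro y hy hy'
        obtain ⟨i, hi, rfl⟩ := Finset.mem_image.1 hy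
        obtain ⟨j, hj, he⟩ := Finset.mem_image.1 hy'
        rw [Finset.mem_range] at hi hj
        change (x⁻¹) ^ q ^ j = x ^ q ^ i at he
        apply hin
        -- `x⁻¹ = x ^ q ^ (i + (l - j))`
        have h1 : x⁻¹ = x ^ q ^ (i + (l - j)) := by
          rw [pow_add, pow_mul, ← he, ← pow_mul, ← pow_add, Nat.add_sub_cancel' hj.le]
          exact ((hlx' l).2 dvd_rfl).symm
        rw [h1]
        exact hm _
    · intro y hy
      rcases Finset.mem_union.1 hy with h1 | h1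
      · exact hR h1
      · obtain ⟨j, -, rfl⟩ := Finset.mem_image.1 h1
        exact h.pow_mem (h.inv x hx) j

/-- an odd prime divisor of `q ^ 2 ^ i + 1` dividing the order of `x` gives `2 ^ (i + 1) ∣ l` -/
theorem two_pow_dvd_period {x : K} (hx0 : x ≠ 0) (hq : 1 ≤ q) {l : ℕ} (hlx : ∀ j, x ^ q ^ j = x ↔ l ∣ j) {s i : ℕ}
    (hs : s.Prime) (hs2 : s ≠ 2) (hsd : s ∣ q ^ 2 ^ i + 1) (hsx : s ∣ orderOf x) : 2 ^ (i + 1) ∣ l := by
  have hs' := Fact.mk hs
  have h1 : x ^ (q ^ l - 1) = 1 := (pow_sub_one_iff hx0 (Nat.one_le_pow _ _ hq)).2 ((hlx l).2 dvd_rfl)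
  have h2 : s ∣ q ^ l - 1 := hsx.trans (orderOf_dvd_of_pow_eq_one h1)
  have h3 : ((q : ZMod s)) ^ 2 ^ i = -1 := by
    have h4 : ((q ^ 2 ^ i + 1 : ℕ) : ZMod s) = 0 := (ZMod.natCast_eq_zero_iff _ _).2 hsd
    push_cast at h4
    exact eq_neg_of_add_eq_zero_left h4
  have : Fact (2 < s) := ⟨lt_of_le_of_ne hs.two_le (Ne.symm hs2)⟩
  have hne : ((q : ZMod s)) ^ 2 ^ i ≠ 1 := by
    rw [h3]
    exact ZMod.neg_one_ne_one
  have h5 : orderOf (q : ZMod s) = 2 ^ (i + 1) := orderOf_eq_prime_pow (p := 2) (n := i) hne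
    (by rw [pow_succ, pow_mul, h3]; norm_num)
  rw [← h5, orderOf_dvd_iff_pow_eq_one]
  have h6 : ((q ^ l - 1 : ℕ) : ZMod s) = 0 := (ZMod.natCast_eq_zero_iff _ _).2 h2
  rw [Nat.cast_sub (Nat.one_le_pow _ _ hq)] at h6
  push_cast at h6
  exact sub_eq_zero.1 h6

/-- at most four elements -/
theorem Cl.four (h : Cl q R) (hq : Odd q) (hR : R.card ≤ 4) {x : K} (hx : x ∈ R) : x ^ q ^ 4 = x := by
  classical
  obtain ⟨l, hl, hlx⟩ := h.exists_period hx
  rw [hlx]
  obtain ⟨hc, hO, hm⟩ := h.orbit hx hl hlx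
  have h4 : l ≤ 4 := by
    rw [← hc]
    exact (Finset.card_le_card hO).trans hR
  have h3 : l ≠ 3 := by
    intro h3
    rcases h.inv_dichotomy hx hl hlx hq.pos with ⟨-, h5 | ⟨j, hj, -⟩⟩ | ⟨-, h5, h6⟩
    · have h7 : x ^ q ^ 1 = x := by
        obtain ⟨c, rfl⟩ := hq
        rw [pow_one, pow_succ, pow_mul, h5, one_pow, one_mul]
      have := (hlx 1).1 h7
      rw [h3] at this
      exact absurd (Nat.le_of_dvd (by norm_num) this) (by norm_num)
    · omega
    · have := Finset.card_le_card h6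
      rw [h5] at this
      omega
  have : l = 1 ∨ l = 2 ∨ l = 4 := by omega
  rcases this with rfl | rfl | rfl <;> decide

/-- odd primes divide at most one of the numbers `q ^ 2 ^ i + 1` -/
theorem not_dvd_levels {s i j : ℕ} (hq : 1 ≤ q) (hs : s.Prime) (hs2 : s ≠ 2) (hij : i < j) (h1 : s ∣ q ^ 2 ^ i + 1)
    (h2 : s ∣ q ^ 2 ^ j + 1) : False := by
  have h3 : q ^ 2 ^ i + 1 ∣ q ^ 2 ^ j - 1 := by
    have h4 : q ^ 2 ^ i + 1 ∣ q ^ 2 ^ (i + 1) - 1 := by
      refine ⟨q ^ 2 ^ i - 1, ?_⟩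
      have := Nat.sq_sub_sq (q ^ 2 ^ i) 1
      rw [← pow_mul, ← pow_succ] at this
      simpa only [_root_.one_pow] using this
    refine h4.trans ?_
    obtain ⟨d, rfl⟩ : ∃ d, j = i + 1 + d := ⟨j - (i + 1), by omega⟩
    rw [pow_add 2 (i + 1) d, pow_mul]
    simpa only [_root_.one_pow] using Nat.sub_dvd_pow_sub_pow (q ^ 2 ^ (i + 1)) 1 (2 ^ d)
  have h5 := Nat.dvd_sub h2 (h1.trans h3)
  have h6 : 1 ≤ q ^ 2 ^ j := Nat.one_le_pow _ _ hq
  rw [show q ^ 2 ^ j + 1 - (q ^ 2 ^ j - 1) = 2 by omega] at h5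
  exact hs2 ((Nat.prime_dvd_prime_iff_eq hs Nat.prime_two).1 h5)

theorem orderOf_conj (h : Cl q R) {x : K} (hx : x ∈ R) (j : ℕ) : orderOf (x ^ q ^ j) = orderOf x := by
  apply Nat.dvd_antisymm (orderOf_pow_dvd _)
  obtain ⟨l, hl, hlx⟩ := h.exists_period hx
  -- `x` is a power of `x ^ q ^ j`
  obtain ⟨i, hi⟩ : ∃ i, l ∣ j + i := ⟨(l - j % l), by
    have h1 := Nat.div_add_mod j l
    have h2 := (Nat.mod_lt j hl).le
    refine ⟨j / l + 1, ?_⟩
    have h3 : l * (j / l + 1) = l * (j / l) + l := by ring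
    omega⟩
  have h3 : (x ^ q ^ j) ^ q ^ i = x := by
    rw [← pow_mul, ← pow_add]
    exact (hlx _).2 hi
  conv_lhs => rw [← h3]
  exact orderOf_pow_dvd _

/-- **BUDGET.** -/
theorem budget' (hq : Odd q) : ∀ (k : ℕ), 1 ≤ k → ∀ (R : Finset K), Cl q R → R.card ≤ 2 ^ (k + 1) →
    (∀ i, 1 ≤ i → i < k → ∃ s x, s.Prime ∧ s ≠ 2 ∧ s ∣ q ^ 2 ^ i + 1 ∧ x ∈ R ∧ s ∣ orderOf x) →
    ∀ x ∈ R, x ^ q ^ 2 ^ (max k 2) = x := by
  classical
  intro k hk
  induction k, hk using Nat.le_induction with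
  | base =>
    intro R h hR _ x hx
    exact h.four hq (by simpa using hR) hx
  | succ k hk ih =>
    intro R h hR hw
    have hq1 := hq.pos
    obtain ⟨s, x, hs, hs2, hsd, hx, hsx⟩ := hw k hk (by omega)
    have hmax : max (k + 1) 2 = k + 1 := by omega
    rw [hmax]
    obtain ⟨l, hl, hlx⟩ := h.exists_period hx
    obtain ⟨hc, hO, hm⟩ := h.orbit hx hl hlx
    have hx0 := h.ne x hx
    have hel : 2 ^ (k + 1) ∣ l := two_pow_dvd_period hx0 hq1 hlx hs hs2 hsd hsx
    obtain ⟨c, hcl⟩ := hel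
    have hc0 : 0 < c := by
      rcases Nat.eq_zero_or_pos c with h0 | h0
      · rw [h0, mul_zero] at hcl; omega
      · exact h0
    have he0 : 0 < 2 ^ (k + 1) := by positivity
    have hcard2 : R.card ≤ 2 * 2 ^ (k + 1) := by
      rw [pow_succ] at hR
      omega
    rcases h.inv_dichotomy hx hl hlx hq1 with ⟨hin, h5 | ⟨j, hj, hxj⟩⟩ | ⟨hin, h5, h6⟩
    · -- `x ^ 2 = 1`
      exfalso
      have h6 : s ∣ 2 := hsx.trans (orderOf_dvd_of_pow_eq_one h5)
      exact hs2 ((Nat.prime_dvd_prime_iff_eq hs Nat.prime_two).1 h6)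
    · -- the orbit is closed under inversion
      have hlR : l ≤ 2 * 2 ^ (k + 1) := by
        rw [← hc]
        exact (Finset.card_le_card hO).trans hcard2
      have hc2 : c ≤ 2 := by
        rw [hcl, mul_comm 2 (2 ^ (k + 1))] at hlR
        exact Nat.le_of_mul_le_mul_left hlR he0
      have hc1 : c = 1 := by
        by_contra hne
        have hc3 : c = 2 := by omega
        subst hc3
        have hj2 : j = 2 ^ (k + 1) := by omega
        subst hj2
        exact not_dvd_levels hq1 hs hs2 (Nat.lt_succ_self k) hsd (hsx.trans (orderOf_dvd_of_pow_eq_one hxj))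
      subst hc1
      rw [mul_one] at hcl
      have hj2 : j = 2 ^ k := by
        rw [hcl, pow_succ] at hj
        omega
      subst hj2
      have hox : orderOf x ∣ q ^ 2 ^ k + 1 := orderOf_dvd_of_pow_eq_one hxj
      set O := ((Finset.range l).image fun j => x ^ q ^ j) with hOd
      have hOo : ∀ y ∈ O, orderOf y ∣ q ^ 2 ^ k + 1 := by
        intro y hy
        obtain ⟨j, -, rfl⟩ := Finset.mem_image.1 hy
        rw [orderOf_conj h hx]
        exact hox
      have hOinv : ∀ y ∈ O, y⁻¹ ∈ O := by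
        intro y hy
        obtain ⟨j, -, rfl⟩ := Finset.mem_image.1 hy
        obtain ⟨i, -, hi⟩ := Finset.mem_image.1 hin
        change x ^ q ^ i = x⁻¹ at hi
        change (x ^ q ^ j)⁻¹ ∈ O
        rw [← inv_pow, ← hi, ← pow_mul, ← pow_add]
        exact hm _
      have hOfrob : ∀ y, y ∈ R → y ^ q ∈ O → y ∈ O := by
        intro y hy hyO
        obtain ⟨i, -, hi⟩ := Finset.mem_image.1 hyO
        change x ^ q ^ i = y ^ q at hi
        -- `x ^ q ^ i = (x ^ q ^ (i + l - 1)) ^ q`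
        have h7 : (x ^ q ^ (i + (l - 1))) ^ q = y ^ q := by
          rw [← hi, ← pow_mul, ← pow_succ, show i + (l - 1) + 1 = l + i by omega, pow_add, pow_mul,
            (hlx l).2 dvd_rfl]
        have h8 := h.inj _ (h.pow_mem hx _) _ hy h7
        rw [← h8]
        exact hm _
      -- the complement
      have hR' : Cl q (R \ O) := by
        refine ⟨fun y hy => h.ne y (Finset.mem_sdiff.1 hy).1, ?_, ?_, ?_⟩
        · intro y hy
          obtain ⟨hy1, hy2⟩ := Finset.mem_sdiff.1 hy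
          exact Finset.mem_sdiff.2 ⟨h.frob y hy1, fun h7 => hy2 (hOfrob y hy1 h7)⟩
        · intro y hy
          obtain ⟨hy1, hy2⟩ := Finset.mem_sdiff.1 hy
          refine Finset.mem_sdiff.2 ⟨h.inv y hy1, fun h7 => hy2 ?_⟩
          have := hOinv _ h7
          rwa [inv_inv] at this
        · intro y hy z hz
          exact h.inj y (Finset.mem_sdiff.1 hy).1 z (Finset.mem_sdiff.1 hz).1
      have hcR' : (R \ O).card ≤ 2 ^ (k + 1) := by
        rw [Finset.card_sdiff_of_subset hO, hc, hcl]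
        omega
      have hw' : ∀ i, 1 ≤ i → i < k → ∃ s x, s.Prime ∧ s ≠ 2 ∧ s ∣ q ^ 2 ^ i + 1 ∧ x ∈ R \ O ∧ s ∣ orderOf x := by
        intro i hi hik
        obtain ⟨t, y, ht, ht2, htd, hy, hty⟩ := hw i hi (by omega)
        refine ⟨t, y, ht, ht2, htd, Finset.mem_sdiff.2 ⟨hy, fun h7 => ?_⟩, hty⟩
        exact not_dvd_levels hq1 ht ht2 hik htd (hty.trans (hOo y h7))
      have ih' := ih (R \ O) hR' hcR' hw'
      intro y hy
      by_cases hyO : y ∈ O
      · obtain ⟨i, -, rfl⟩ := Finset.mem_image.1 hyO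
        change (x ^ q ^ i) ^ q ^ 2 ^ (k + 1) = x ^ q ^ i
        rw [← pow_mul, mul_comm, pow_mul, ← hcl, (hlx l).2 dvd_rfl]
      · have h7 := ih' y (Finset.mem_sdiff.2 ⟨hy, hyO⟩)
        obtain ⟨l', hl', hly'⟩ := h.exists_period hy
        rw [hly'] at h7 ⊢
        refine h7.trans (pow_dvd_pow 2 ?_)
        omega
    · -- the orbit and its inverse
      have h7 : 2 * l ≤ 2 * 2 ^ (k + 1) := by
        rw [← h5]
        exact (Finset.card_le_card h6).trans hcard2
      have hc1 : c = 1 := by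
        rw [hcl] at h7
        have : 2 ^ (k + 1) * c ≤ 2 ^ (k + 1) * 1 := by omega
        have := Nat.le_of_mul_le_mul_left this he0
        omega
      subst hc1
      rw [mul_one] at hcl
      have h8 : (((Finset.range l).image fun j => x ^ q ^ j) ∪ ((Finset.range l).image fun j => (x⁻¹) ^ q ^ j)) = R := by
        apply Finset.eq_of_subset_of_card_le h6
        rw [h5, hcl]
        exact hcard2
      intro y hy
      rw [← h8] at hy
      have h9 : x ^ q ^ 2 ^ (k + 1) = x := by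
        rw [← hcl]
        exact (hlx l).2 dvd_rfl
      rcases Finset.mem_union.1 hy with hy | hy
      · obtain ⟨i, -, rfl⟩ := Finset.mem_image.1 hy
        change (x ^ q ^ i) ^ q ^ 2 ^ (k + 1) = x ^ q ^ i
        rw [← pow_mul, mul_comm, pow_mul, h9]
      · obtain ⟨i, -, rfl⟩ := Finset.mem_image.1 hy
        change ((x⁻¹) ^ q ^ i) ^ q ^ 2 ^ (k + 1) = (x⁻¹) ^ q ^ i
        rw [← pow_mul, mul_comm, pow_mul, inv_pow, h9]

/-- **BUDGET.** -/
theorem budget (hq : Odd q) {k : ℕ} (hk : 2 ≤ k) {R : Finset K} (h : Cl q R) (hR : R.card ≤ 2 ^ (k + 1))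
    (hw : ∀ i, 1 ≤ i → i < k → ∃ s x, s.Prime ∧ s ≠ 2 ∧ s ∣ q ^ 2 ^ i + 1 ∧ x ∈ R ∧ s ∣ orderOf x) {x : K}
    (hx : x ∈ R) : x ^ (q ^ 2 ^ k - 1) = 1 := by
  rw [pow_sub_one_iff (h.ne x hx) (Nat.one_le_pow _ _ hq.pos)]
  have := budget' hq k (by omega) R h hR hw x hx
  rwa [max_eq_left hk] at this

end Cfsg.Agent.H202.TP
end

-- part: H76/TP/Eig
section
/-!
# Block TP (S3536): eigenvalues (helper76)

`R` a multiset of at most `2 n` nonzero elements of a field closed under `x ↦ x ^ q` and inversion, `n = 2 ^ k`.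

* `iso_core` : an element of order divisible by an odd prime divisor of `q ^ n + 1`: `R` is one orbit, `x ^ ((q ^ n + 1) / 2) = ±1`;
* `two_core` : an element of order divisible by the 2-part of `q ^ n - 1`: `x ^ ((q ^ n - 1) / 2) = ±1`;
* `exists_eig` : a prime power dividing the order of a linear map divides the order of an eigenvalue.
-/

set_option autoImplicit false
set_option linter.unusedSectionVars false

namespace Cfsg.Agent.H76.TP

open Module Polynomial
open Cfsg.Agent.H160.QRoots Cfsg.Agent.H160.QChar Cfsg.Agent.H202.T Cfsg.Agent.H202.TP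

section

variable {K : Type*} [Field K] [DecidableEq K] {q : ℕ} {R : Multiset K}

theorem cl_of_inv0 (hq : Function.Injective (fun x : K => x ^ q)) (h : Inv0 q R) : Cl q R.toFinset where
  ne x hx := h.ne0 x (Multiset.mem_toFinset.1 hx)
  frob x hx := by
    rw [Multiset.mem_toFinset, ← Multiset.one_le_count_iff_mem] at *
    rwa [h.frob]
  inv x hx := by
    rw [Multiset.mem_toFinset, ← Multiset.one_le_count_iff_mem] at *
    rwa [h.inv]
  inj x _ y _ e := hq e

theorem pow_sign {a : K} (ha : a = 1 ∨ a = -1) (hq : Odd q) (i : ℕ) : a ^ q ^ i = a := by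
  rcases ha with rfl | rfl
  · rw [one_pow]
  · rw [hq.pow.neg_one_pow]

theorem inv_sign {a : K} (ha : a = 1 ∨ a = -1) : a⁻¹ = a := by
  rcases ha with rfl | rfl
  · rw [inv_one]
  · rw [inv_neg, inv_one]

theorem sign_of_sq {a : K} (h : a ^ 2 = 1) : a = 1 ∨ a = -1 := by
  rw [pow_two] at h
  exact mul_self_eq_one_iff.1 h

/-- `R` has no multiplicities if its support is large -/
theorem count_le_one {N : ℕ} (hR : R.card ≤ N) (hN : N ≤ R.toFinset.card) (x : K) : R.count x ≤ 1 := by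
  have h1 : R.toFinset.card ≤ R.card := Multiset.toFinset_card_le R
  have h2 : R.toFinset.card = R.card := by omega
  exact Multiset.nodup_iff_count_le_one.1 (Multiset.toFinset_card_eq_card_iff_nodup.1 h2) x

theorem iso_core (hq : Function.Injective (fun x : K => x ^ q)) (hodd : Odd q) (h : Inv0 q R) {k : ℕ}
    (hR : R.card ≤ 2 ^ (k + 1)) {μ : K} (hμ : μ ∈ R) {r : ℕ} (hr : r.Prime) (hr2 : r ≠ 2) (hrq : r ∣ q ^ 2 ^ k + 1)
    (hrμ : r ∣ orderOf μ) :
    (∀ x, R.count x ≤ 1) ∧ ∃ a : K, (a = 1 ∨ a = -1) ∧ ∀ x ∈ R, x ^ ((q ^ 2 ^ k + 1) / 2) = a := by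
  have hC := cl_of_inv0 hq h
  have hμ' : μ ∈ R.toFinset := Multiset.mem_toFinset.2 hμ
  obtain ⟨l, hl, hlx⟩ := hC.exists_period hμ'
  have h1 : 2 ^ (k + 1) ∣ l := two_pow_dvd_period (hC.ne μ hμ') hodd.pos hlx hr hr2 hrq hrμ
  obtain ⟨hc, hO, hm⟩ := hC.orbit hμ' hl hlx
  have hcR : R.toFinset.card ≤ R.card := Multiset.toFinset_card_le R
  have h2 : l ≤ R.toFinset.card := by
    rw [← hc]
    exact Finset.card_le_card hO
  have hl' : l = 2 ^ (k + 1) := le_antisymm (by omega) (Nat.le_of_dvd hl h1)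
  have hOR : ((Finset.range l).image fun j => μ ^ q ^ j) = R.toFinset :=
    Finset.eq_of_subset_of_card_le hO (by rw [hc]; omega)
  have hsq : (μ ^ ((q ^ 2 ^ k + 1) / 2)) ^ 2 = 1 := by
    have e : (q ^ 2 ^ k + 1) / 2 * 2 = q ^ 2 ^ k + 1 :=
      Nat.div_mul_cancel (even_iff_two_dvd.1 hodd.pow.add_one)
    rw [← pow_mul, e]
    rcases hC.inv_dichotomy hμ' hl hlx hodd.pos with ⟨-, h5 | ⟨j, hj, hxj⟩⟩ | ⟨hin, -, -⟩
    · exfalso
      have h6 : r ∣ 2 := hrμ.trans (orderOf_dvd_of_pow_eq_one h5)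
      exact hr2 ((Nat.prime_dvd_prime_iff_eq hr Nat.prime_two).1 h6)
    · have hj2 : j = 2 ^ k := by
        rw [hl', pow_succ] at hj
        omega
      rwa [hj2] at hxj
    · exact (hin (by rw [hOR]; exact hC.inv μ hμ')).elim
  refine ⟨count_le_one hR (by omega), μ ^ ((q ^ 2 ^ k + 1) / 2), sign_of_sq hsq, fun x hx => ?_⟩
  have hx' := Multiset.mem_toFinset.2 hx
  rw [← hOR] at hx'
  obtain ⟨i, -, rfl⟩ := Finset.mem_image.1 hx'
  change (μ ^ q ^ i) ^ ((q ^ 2 ^ k + 1) / 2) = _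
  rw [← pow_mul, mul_comm, pow_mul, pow_sign (sign_of_sq hsq) hodd]

theorem mod_four {q j : ℕ} (hodd : Odd q) (hj : Even j) : q ^ j % 4 = 1 := by
  obtain ⟨i, rfl⟩ := hj
  obtain ⟨c, rfl⟩ := hodd
  rw [← two_mul, pow_mul, Nat.pow_mod]
  have : (2 * c + 1) ^ 2 % 4 = 1 := by
    have : (2 * c + 1) ^ 2 = 4 * (c ^ 2 + c) + 1 := by ring
    omega
  rw [this, one_pow]
  rfl

/-- the 2-part of `q ^ n - 1` divides no `q ^ l - 1` with `n ∤ l` -/
theorem dvd_of_two {q k a l : ℕ} (hodd : Odd q) (ha : 2 ^ a ∣ q ^ 2 ^ k - 1) (ha' : ¬ 2 ^ (a + 1) ∣ q ^ 2 ^ k - 1)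
    (hl : 2 ^ a ∣ q ^ l - 1) : 2 ^ k ∣ l := by
  have h1 : 2 ^ a ∣ q ^ Nat.gcd l (2 ^ k) - 1 := by
    rw [← Nat.pow_sub_one_gcd_pow_sub_one]
    exact Nat.dvd_gcd hl ha
  obtain ⟨b, hb, hbe⟩ := (Nat.dvd_prime_pow Nat.prime_two).1 (Nat.gcd_dvd_right l (2 ^ k))
  rcases Nat.lt_or_ge b k with h2 | h2
  · exfalso
    apply ha'
    obtain ⟨j, rfl⟩ : ∃ j, k = j + 1 := ⟨k - 1, by omega⟩
    rw [hbe] at h1
    have h3 : 2 ^ a ∣ q ^ 2 ^ j - 1 := by
      refine h1.trans ?_
      obtain ⟨d, rfl⟩ : ∃ d, j = b + d := ⟨j - b, by omega⟩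
      rw [pow_add 2 b d, pow_mul]
      simpa only [_root_.one_pow] using Nat.sub_dvd_pow_sub_pow (q ^ 2 ^ b) 1 (2 ^ d)
    have h4 : q ^ 2 ^ (j + 1) - 1 = (q ^ 2 ^ j - 1) * (q ^ 2 ^ j + 1) := by
      have := Nat.sq_sub_sq (q ^ 2 ^ j) 1
      rw [← pow_mul, ← pow_succ] at this
      rw [mul_comm]
      simpa only [_root_.one_pow] using this
    rw [h4, pow_succ]
    exact Nat.mul_dvd_mul h3 (even_iff_two_dvd.1 hodd.pow.add_one)
  · have : b = k := le_antisymm hb h2
    rw [this] at hbe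
    rw [← hbe]
    exact Nat.gcd_dvd_left l (2 ^ k)

theorem two_core (hq : Function.Injective (fun x : K => x ^ q)) (hodd : Odd q) (h : Inv0 q R) {k : ℕ} (hk : 2 ≤ k)
    (hR : R.card ≤ 2 ^ (k + 1)) {μ : K} (hμ : μ ∈ R) {a : ℕ} (ha : 2 ^ a ∣ q ^ 2 ^ k - 1)
    (ha' : ¬ 2 ^ (a + 1) ∣ q ^ 2 ^ k - 1) (haμ : 2 ^ a ∣ orderOf μ) :
    (∀ x, R.count x ≤ 1) ∧ ∃ a : K, (a = 1 ∨ a = -1) ∧ ∀ x ∈ R, x ^ ((q ^ 2 ^ k - 1) / 2) = a := by
  have hC := cl_of_inv0 hq h
  have hμ' : μ ∈ R.toFinset := Multiset.mem_toFinset.2 hμ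
  obtain ⟨l, hl, hlx⟩ := hC.exists_period hμ'
  have hx0 := hC.ne μ hμ'
  have hq1 : ∀ j, 1 ≤ q ^ j := fun j => Nat.one_le_pow _ _ hodd.pos
  have hml : μ ^ (q ^ l - 1) = 1 := (pow_sub_one_iff hx0 (hq1 l)).2 ((hlx l).2 dvd_rfl)
  have h1 : 2 ^ k ∣ l := dvd_of_two hodd ha ha' (haμ.trans (orderOf_dvd_of_pow_eq_one hml))
  have hk4 : 4 ∣ 2 ^ k := by
    have : 2 ^ 2 ∣ 2 ^ k := pow_dvd_pow 2 hk
    exact this
  have ha2 : 2 ≤ a := by
    by_contra hc
    apply ha'
    have h4 : q ^ 2 ^ k % 4 = 1 := mod_four hodd (even_iff_two_dvd.2 ((by norm_num : 2 ∣ 4).trans hk4))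
    have h5 : 2 ^ (a + 1) ∣ 2 ^ 2 := pow_dvd_pow 2 (by omega)
    refine h5.trans ?_
    norm_num
    omega
  have h4a : 4 ∣ 2 ^ a := by
    have : 2 ^ 2 ∣ 2 ^ a := pow_dvd_pow 2 ha2
    exact this
  obtain ⟨hc, hO, hm⟩ := hC.orbit hμ' hl hlx
  have hcR : R.toFinset.card ≤ R.card := Multiset.toFinset_card_le R
  rcases hC.inv_dichotomy hμ' hl hlx hodd.pos with ⟨-, h5 | ⟨j, hj, hxj⟩⟩ | ⟨hin, h5, h6⟩
  · exfalso
    have h6 := Nat.le_of_dvd (by norm_num) (h4a.trans (haμ.trans (orderOf_dvd_of_pow_eq_one h5)))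
    omega
  · exfalso
    have h6 : 4 ∣ q ^ j + 1 := h4a.trans (haμ.trans (orderOf_dvd_of_pow_eq_one hxj))
    have h7 : Even j := by
      have : 4 ∣ 2 * j := by rw [← hj]; exact hk4.trans h1
      rw [even_iff_two_dvd]
      omega
    have h8 := mod_four hodd h7
    omega
  · have h7 : 2 * l ≤ R.toFinset.card := by
      rw [← h5]
      exact Finset.card_le_card h6
    have hl' : l = 2 ^ k := by
      refine le_antisymm ?_ (Nat.le_of_dvd hl h1)
      rw [pow_succ] at hR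
      omega
    have h8 : (((Finset.range l).image fun j => μ ^ q ^ j) ∪ ((Finset.range l).image fun j => (μ⁻¹) ^ q ^ j)) =
        R.toFinset := by
      apply Finset.eq_of_subset_of_card_le h6
      rw [h5, hl']
      rw [pow_succ] at hR
      omega
    have hsq : (μ ^ ((q ^ 2 ^ k - 1) / 2)) ^ 2 = 1 := by
      have e : (q ^ 2 ^ k - 1) / 2 * 2 = q ^ 2 ^ k - 1 :=
        Nat.div_mul_cancel (even_iff_two_dvd.1 (Nat.Odd.sub_odd hodd.pow odd_one))
      rw [← pow_mul, e, ← hl']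
      exact hml
    refine ⟨count_le_one hR (by rw [pow_succ, ← hl']; omega), μ ^ ((q ^ 2 ^ k - 1) / 2), sign_of_sq hsq, fun x hx => ?_⟩
    have hx' := Multiset.mem_toFinset.2 hx
    rw [← h8] at hx'
    rcases Finset.mem_union.1 hx' with hx' | hx'
    · obtain ⟨i, -, rfl⟩ := Finset.mem_image.1 hx'
      change (μ ^ q ^ i) ^ ((q ^ 2 ^ k - 1) / 2) = _
      rw [← pow_mul, mul_comm, pow_mul, pow_sign (sign_of_sq hsq) hodd]
    · obtain ⟨i, -, rfl⟩ := Finset.mem_image.1 hx'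
      change ((μ⁻¹) ^ q ^ i) ^ ((q ^ 2 ^ k - 1) / 2) = _
      rw [← pow_mul, mul_comm, pow_mul, inv_pow, inv_sign (sign_of_sq hsq), pow_sign (sign_of_sq hsq) hodd]

end

/-- a prime power dividing a least common multiple -/
theorem pow_dvd_lcm {r a m n : ℕ} (hr : r.Prime) (h : r ^ a ∣ Nat.lcm m n) : r ^ a ∣ m ∨ r ^ a ∣ n := by
  rcases Nat.eq_zero_or_pos m with rfl | hm
  · exact Or.inl (dvd_zero _)
  rcases Nat.eq_zero_or_pos n with rfl | hn
  · exact Or.inr (dvd_zero _)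
  rw [hr.pow_dvd_iff_le_factorization (Nat.lcm_ne_zero hm.ne' hn.ne'), Nat.factorization_lcm hm.ne' hn.ne'] at h
  rw [hr.pow_dvd_iff_le_factorization hm.ne', hr.pow_dvd_iff_le_factorization hn.ne']
  simpa only [_root_.Finsupp.sup_apply, _root_.le_sup_iff] using h

theorem pow_dvd_finset_lcm {ι : Type*} {r a : ℕ} (hr : r.Prime) (ha : 1 ≤ a) (s : Finset ι) (f : ι → ℕ)
    (h : r ^ a ∣ s.lcm f) : ∃ i ∈ s, r ^ a ∣ f i := by
  classical
  induction s using Finset.induction_on with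
  | empty =>
    exfalso
    rw [Finset.lcm_empty] at h
    have := Nat.dvd_one.1 h
    exact (Nat.one_lt_pow (by omega) hr.one_lt).ne' this
  | insert i s his ih =>
    rw [Finset.lcm_insert] at h
    rcases pow_dvd_lcm hr h with h | h
    · exact ⟨i, Finset.mem_insert_self _ _, h⟩
    · obtain ⟨j, hj, hjd⟩ := ih h
      exact ⟨j, Finset.mem_insert_of_mem hj, hjd⟩

section

variable {F V : Type*} [Field F] [AddCommGroup V] [Module F V] [FiniteDimensional F V]

open Classical in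
/-- **A prime power dividing the order of `g` divides the order of an eigenvalue.** -/
theorem exists_eig {p : ℕ} [hp : Fact p.Prime] [CharP F p] {g : V →ₗ[F] V} (hfin : ∀ x ∈ rts g, 0 < orderOf x)
    {r a : ℕ} (hr : r.Prime) (hrp : r ≠ p) (ha : 1 ≤ a) (h : ∀ N, 0 < N → g ^ N = 1 → r ^ a ∣ N) :
    ∃ μ ∈ rts g, r ^ a ∣ orderOf μ := by
  obtain ⟨N, hN⟩ : ∃ N, N = (rts g).toFinset.lcm orderOf := ⟨_, rfl⟩
  have hN0 : 0 < N := by
    rw [Nat.pos_iff_ne_zero, hN]
    intro h0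
    rw [Finset.lcm_eq_zero_iff] at h0
    obtain ⟨x, hx, hx0⟩ := h0
    exact (hfin x (Multiset.mem_toFinset.1 hx)).ne' hx0
  have hB : Bd (rts g) (rts g).card N := by
    refine ⟨fun x => Multiset.count_le_card _ _, fun x hx => ?_⟩
    rw [← orderOf_dvd_iff_pow_eq_one, hN]
    exact Finset.dvd_lcm (Multiset.mem_toFinset.2 hx)
  have h1 := pow_eq_one_of_bd hB (Nat.lt_pow_self hp.out.one_lt).le
  have h2 := h _ (Nat.mul_pos hN0 (pow_pos hp.out.pos _)) h1
  have h3 : r ^ a ∣ N := by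
    refine (Nat.Coprime.pow_left _ (Nat.Coprime.pow_right _ ?_)).dvd_of_dvd_mul_right h2
    exact (Nat.coprime_primes hr hp.out).2 hrp
  rw [hN] at h3
  obtain ⟨μ, hμ, hd⟩ := pow_dvd_finset_lcm hr ha _ _ h3
  exact ⟨μ, Multiset.mem_toFinset.1 hμ, hd⟩

open Classical in
/-- the roots have finite order -/
theorem order_pos [Fintype F] {g : V →ₗ[F] V} (h : Inv0 (Fintype.card F) (rts g)) {x : AlgebraicClosure F}
    (hx : x ∈ rts g) : 0 < orderOf x := by
  have hC := cl_of_inv0 (frob_inj F) h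
  obtain ⟨l, hl, hlx⟩ := hC.exists_period (Multiset.mem_toFinset.2 hx)
  rw [orderOf_pos_iff, isOfFinOrder_iff_pow_eq_one]
  have hq : 1 < Fintype.card F := Fintype.one_lt_card
  have h1 : 1 < Fintype.card F ^ l := Nat.one_lt_pow hl.ne' hq
  exact ⟨_, by omega, (pow_sub_one_iff (h.ne0 x hx) h1.le).2 ((hlx l).2 dvd_rfl)⟩

open Classical in
/-- **the torus** -/
theorem tor_core [Fintype F] {p : ℕ} [hp : Fact p.Prime] [CharP F p] (hodd : Odd (Fintype.card F)) {g : V →ₗ[F] V}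
    (h : Inv0 (Fintype.card F) (rts g)) {k : ℕ} (hk : 2 ≤ k) (hR : (rts g).toFinset.card ≤ 2 ^ (k + 1))
    (hs : ∀ i, 1 ≤ i → i < k → ∃ s, s.Prime ∧ s ≠ 2 ∧ s ∣ Fintype.card F ^ 2 ^ i + 1 ∧
      ∀ N, 0 < N → g ^ N = 1 → s ∣ N) :
    g ^ ((Fintype.card F ^ 2 ^ k - 1) * p ^ (rts g).card) = 1 := by
  refine pow_eq_one_of_bd (M := (rts g).card) ⟨fun x => Multiset.count_le_card _ _, fun x hx => ?_⟩
    (Nat.lt_pow_self hp.out.one_lt).le
  refine budget hodd hk (cl_of_inv0 (frob_inj F) h) hR (fun i hi hik => ?_) (Multiset.mem_toFinset.2 hx)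
  obtain ⟨s, hs1, hs2, hsd, hsN⟩ := hs i hi hik
  have hsp : s ≠ p := by
    rintro rfl
    have h1 : s ∣ Fintype.card F := by
      obtain ⟨n, -, hn⟩ := FiniteField.card F s
      rw [hn]
      exact dvd_pow_self s n.2.ne'
    have h2 : s ∣ 1 := (Nat.dvd_add_right (dvd_pow h1 (by positivity))).1 hsd
    exact hs1.one_lt.ne' (Nat.dvd_one.1 h2)
  obtain ⟨μ, hμ, hd⟩ := exists_eig (fun x hx => order_pos h hx) hs1 hsp le_rfl (by simpa only [_root_.pow_one] using hsN)
  exact ⟨s, μ, hs1, hs2, hsd, Multiset.mem_toFinset.2 hμ, by simpa using hd⟩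

end

end Cfsg.Agent.H76.TP
end

-- part: H76/TP/UpSp
section
/-!
# Block TP (S3536): the element orders of `PSp_{2n}(q)`, `n = 2 ^ k`, `q` odd (helper76)

`iso`, `two`, `tor`, `pr`.
-/

set_option autoImplicit false
set_option linter.unusedSectionVars false

namespace Cfsg.Agent.H76.TP.Sp

open Module Polynomial Matrix
open Cfsg.Agent.H160.QRoots Cfsg.Agent.H160.QChar Cfsg.Agent.H202.T Cfsg.Agent.H202.TP

section

variable {F : Type*} [Field F] {n : ℕ}

theorem pow_of_lin (g : Matrix.symplecticGroup (Fin n) F) (N : ℕ) (a : F)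
    (h : (Matrix.toLin' g.1 : (Fin n ⊕ Fin n → F) →ₗ[F] (Fin n ⊕ Fin n → F)) ^ N = algebraMap F (Module.End F _) a) :
    (g ^ N).1 = a • (1 : Matrix _ _ F) := by
  have h1 : Matrix.toLin' (g ^ N).1 = Matrix.toLin' (a • (1 : Matrix (Fin n ⊕ Fin n) (Fin n ⊕ Fin n) F)) := by
    rw [SubmonoidClass.coe_pow, Matrix.toLin'_pow, h, map_smul, Matrix.toLin'_one]
    rfl
  exact Matrix.toLin'.injective h1

theorem dvd_of_one (g : Matrix.symplecticGroup (Fin n) F) {N : ℕ}
    (h : (Matrix.toLin' g.1 : (Fin n ⊕ Fin n → F) →ₗ[F] (Fin n ⊕ Fin n → F)) ^ N = 1) :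
    orderOf (g : Cfsg.PSp n F) ∣ N := by
  apply orderOf_psp_dvd
  left
  rw [pow_of_lin g N 1 (by rw [h, map_one]), one_smul]

open Classical in
theorem dvd_of_sign (g : Matrix.symplecticGroup (Fin n) F) {N : ℕ} (hN : 0 < N)
    (hcnt : ∀ x, (rts (Matrix.toLin' g.1 : (Fin n ⊕ Fin n → F) →ₗ[F] (Fin n ⊕ Fin n → F))).count x ≤ 1)
    {a : AlgebraicClosure F} (ha : a = 1 ∨ a = -1)
    (h : ∀ x ∈ rts (Matrix.toLin' g.1 : (Fin n ⊕ Fin n → F) →ₗ[F] (Fin n ⊕ Fin n → F)), x ^ N = a) :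
    orderOf (g : Cfsg.PSp n F) ∣ N := by
  obtain ⟨b, hb, hab⟩ : ∃ b : F, (b = 1 ∨ b = -1) ∧ a = algebraMap F (AlgebraicClosure F) b := by
    rcases ha with rfl | rfl
    · exact ⟨1, Or.inl rfl, by rw [map_one]⟩
    · exact ⟨-1, Or.inr rfl, by rw [map_neg, map_one]⟩
  have h1 := pow_of_lin g N b (pow_eq_of_simple hN b hcnt fun x hx => by rw [h x hx, hab])
  apply orderOf_psp_dvd
  rcases hb with rfl | rfl
  · left; rw [h1, one_smul]
  · right; rw [h1, neg_smul, one_smul]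

theorem card_rts_sp (g : Matrix.symplecticGroup (Fin n) F) :
    (rts (Matrix.toLin' g.1 : (Fin n ⊕ Fin n → F) →ₗ[F] (Fin n ⊕ Fin n → F))).card = 2 * n := by
  rw [card_rts, Module.finrank_fintype_fun_eq_card, Fintype.card_sum, Fintype.card_fin]
  ring

end

section

variable {F : Type*} [Field F] [Fintype F] {p a k : ℕ}

theorem charP_of (hp : p.Prime) (hF : Fintype.card F = p ^ a) : CharP F p := by
  have := Fact.mk hp
  obtain ⟨r, hr⟩ := CharP.exists F
  have hrp : Fact r.Prime := ⟨CharP.char_is_prime F r⟩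
  obtain ⟨n, -, hn⟩ := FiniteField.card F r
  have h1 : r ∣ p ^ a := by
    rw [← hF, hn]
    exact dvd_pow_self r n.2.ne'
  have := (Nat.prime_dvd_prime_iff_eq hrp.out hp).1 (hrp.out.dvd_of_dvd_pow h1)
  rwa [this] at hr

theorem odd_of (hp : p.Prime) (hp2 : p ≠ 2) (hF : Fintype.card F = p ^ a) : Odd (Fintype.card F) := by
  rw [hF]
  exact (hp.odd_of_ne_two hp2).pow

/-- **isolation** -/
theorem iso (hp : p.Prime) (hp2 : p ≠ 2) (hF : Fintype.card F = p ^ a) (hk : 2 ≤ k) (x : Cfsg.PSp (2 ^ k) F) {r : ℕ}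
    (hr : r.Prime) (hrm : r ∣ mn (Fintype.card F) k) (hrx : r ∣ orderOf x) : orderOf x ∣ mn (Fintype.card F) k := by
  classical
  obtain ⟨g, rfl⟩ := QuotientGroup.mk_surjective x
  have := Fact.mk hp
  have := charP_of hp hF
  have hodd := odd_of hp hp2 hF
  have h0 := inv0_sp g
  have hrq : r ∣ Fintype.card F ^ 2 ^ k + 1 := by
    rw [← two_mn hk hodd]
    exact hrm.mul_left 2
  have hr2 : r ≠ 2 := by
    rintro rfl
    rw [mn_eq hk] at hrm
    have := mm_mod (q := Fintype.card F ^ 2 ^ (k - 2)) hodd.pow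
    omega
  have hrp : r ≠ p := by
    rintro rfl
    have ha : a ≠ 0 := by
      rintro rfl
      rw [pow_zero] at hF
      have := Fintype.one_lt_card (α := F)
      omega
    have h1 : r ∣ Fintype.card F := by rw [hF]; exact dvd_pow_self r ha
    have h2 : r ∣ 1 := (Nat.dvd_add_right (dvd_pow h1 (by positivity))).1 hrq
    exact hr.one_lt.ne' (Nat.dvd_one.1 h2)
  obtain ⟨μ, hμ, hd⟩ := exists_eig (g := (Matrix.toLin' g.1 : (Fin (2 ^ k) ⊕ Fin (2 ^ k) → F) →ₗ[F] _)) (a := 1)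
    (fun x hx => order_pos h0 hx) hr hrp le_rfl (fun N _ hN => by
      rw [pow_one]
      exact hrx.trans (dvd_of_one g hN))
  rw [pow_one] at hd
  obtain ⟨hcnt, b, hb, hall⟩ := iso_core (k := k) (frob_inj F) hodd h0 (by rw [card_rts_sp, pow_succ, mul_comm]) hμ hr hr2
    hrq hd
  refine dvd_of_sign g ?_ hcnt hb hall
  have : 1 ≤ Fintype.card F ^ 2 ^ k := Nat.one_le_pow _ _ hodd.pos
  unfold mn
  omega

/-- **the powers of 2** -/
theorem two (hp : p.Prime) (hp2 : p ≠ 2) (hF : Fintype.card F = p ^ a) (hk : 2 ≤ k) (x : Cfsg.PSp (2 ^ k) F) {j : ℕ}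
    (hj : 2 ^ j ∣ orderOf x) : 2 ^ j ∣ mn (Fintype.card F) k - 1 := by
  classical
  obtain ⟨g, rfl⟩ := QuotientGroup.mk_surjective x
  have := Fact.mk hp
  have := charP_of hp hF
  have hodd := odd_of hp hp2 hF
  have h0 := inv0_sp g
  have hlt : 1 < Fintype.card F ^ 2 ^ k := Nat.one_lt_pow (by positivity) Fintype.one_lt_card
  obtain ⟨b, o, ho, hbo⟩ := Nat.exists_eq_two_pow_mul_odd (n := Fintype.card F ^ 2 ^ k - 1) (by omega)
  have hb1 : 1 ≤ b := by
    by_contra hc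
    have : b = 0 := by omega
    rw [this, pow_zero, one_mul] at hbo
    rw [← hbo] at ho
    exact (Nat.not_even_iff_odd.2 ho) (Nat.Odd.sub_odd hodd.pow odd_one)
  obtain ⟨c, rfl⟩ : ∃ c, b = c + 1 := ⟨b - 1, by omega⟩
  have h2 : mn (Fintype.card F) k - 1 = 2 ^ c * o := by
    have h3 := two_mn_sub hk hodd
    rw [hbo, pow_succ] at h3
    have : 2 * (2 ^ c * o) = 2 ^ c * 2 * o := by ring
    omega
  rcases Nat.lt_or_ge c j with h3 | h3
  · exfalso
    have hj' : 2 ^ (c + 1) ∣ orderOf (g : Cfsg.PSp (2 ^ k) F) := (pow_dvd_pow 2 h3).trans hj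
    obtain ⟨μ, hμ, hd⟩ := exists_eig (g := (Matrix.toLin' g.1 : (Fin (2 ^ k) ⊕ Fin (2 ^ k) → F) →ₗ[F] _)) (a := c + 1)
      (fun x hx => order_pos h0 hx) Nat.prime_two hp2.symm (by omega) (fun N _ hN => hj'.trans (dvd_of_one g hN))
    obtain ⟨hcnt, b, hb, hall⟩ := two_core (k := k) (frob_inj F) hodd h0 hk (by rw [card_rts_sp, pow_succ, mul_comm]) hμ
      (by rw [hbo]; exact Dvd.intro _ rfl) (fun h5 => by
        rw [hbo, pow_succ 2 (c + 1)] at h5
        have h6 : 2 ∣ o := (Nat.mul_dvd_mul_iff_left (by positivity)).1 h5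
        exact (Nat.not_even_iff_odd.2 ho) (even_iff_two_dvd.2 h6)) hd
    have e : (Fintype.card F ^ 2 ^ k - 1) / 2 = 2 ^ c * o := by
      rw [half_mn hk hodd, h2]
    have h7 := dvd_of_sign g (by rw [e]; exact Nat.mul_pos (by positivity) ho.pos) hcnt hb hall
    rw [e] at h7
    have h8 := hj'.trans h7
    rw [pow_succ] at h8
    have h9 : 2 ∣ o := (Nat.mul_dvd_mul_iff_left (by positivity)).1 h8
    exact (Nat.not_even_iff_odd.2 ho) (even_iff_two_dvd.2 h9)
  · rw [h2]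
    exact (pow_dvd_pow 2 h3).mul_right _

/-- **the torus** -/
theorem tor (hp : p.Prime) (hp2 : p ≠ 2) (hF : Fintype.card F = p ^ a) (hk : 2 ≤ k) (x : Cfsg.PSp (2 ^ k) F)
    (hx : ∀ i, 1 ≤ i → i < k → ∃ s, s.Prime ∧ s ≠ 2 ∧ s ∣ Fintype.card F ^ 2 ^ i + 1 ∧ s ∣ orderOf x) :
    ∃ j, orderOf x ∣ p ^ j * (Fintype.card F ^ 2 ^ k - 1) := by
  classical
  obtain ⟨g, rfl⟩ := QuotientGroup.mk_surjective x
  have := Fact.mk hp
  have := charP_of hp hF
  have hodd := odd_of hp hp2 hF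
  have h0 := inv0_sp g
  have key := tor_core (p := p) hodd h0 hk ((Multiset.toFinset_card_le _).trans (by rw [card_rts_sp, pow_succ, mul_comm]))
    fun i hi hik => by
      obtain ⟨s, hs, hs2, hsd, hsx⟩ := hx i hi hik
      exact ⟨s, hs, hs2, hsd, fun N _ hN => hsx.trans (dvd_of_one g hN)⟩
  exact ⟨_, by rw [mul_comm]; exact dvd_of_one g key⟩

/-- **the primes** -/
theorem pr (hp : p.Prime) (hF : Fintype.card F = p ^ a) {r : ℕ} (hr : r.Prime)
    (hrd : r ∣ Nat.card (Cfsg.PSp (2 ^ k) F)) :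
    r = p ∨ ∃ i, 1 ≤ i ∧ i ≤ 2 ^ k ∧ r ∣ Fintype.card F ^ (2 * i) - 1 := by
  have h1 := Cfsg.Agent.S0245.result (F := F) rfl (2 ^ k)
  have h3 := Subgroup.card_mul_index (Subgroup.center ↥(Matrix.symplecticGroup (Fin (2 ^ k)) F))
  rw [h1] at h3
  have h4 : r ∣ Fintype.card F ^ ((2 ^ k) ^ 2) * ∏ i ∈ Finset.range (2 ^ k), (Fintype.card F ^ (2 * (i + 1)) - 1) := by
    rw [← h3]
    exact hrd.mul_left _
  rcases hr.dvd_mul.1 h4 with h5 | h5
  · left
    have h6 := hr.dvd_of_dvd_pow h5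
    rw [hF] at h6
    exact (Nat.prime_dvd_prime_iff_eq hr hp).1 (hr.dvd_of_dvd_pow h6)
  · right
    obtain ⟨i, hi, h6⟩ := (hr.prime.dvd_finsetProd_iff _).1 h5
    rw [Finset.mem_range] at hi
    exact ⟨i + 1, by omega, by omega, h6⟩

end

end Cfsg.Agent.H76.TP.Sp
end

-- part: H189/TP/Bud
section
/-!
# Block TP (S3536): the budget of orbits (helper189)

* `bud` : `Inv q R`, `|R| ≤ 2 ^ (k + 1)`, `k ≥ 2`, and for each `1 ≤ i < k` an odd prime divisor of `q ^ 2 ^ i + 1`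
  divides the order of an element of `R`; then `x ^ (q ^ 2 ^ k - 1) = 1` for `x ∈ R`.
-/

set_option autoImplicit false
set_option linter.unusedSectionVars false

namespace Cfsg.Agent.H189.TP

open Cfsg.Agent.H160.QRoots

/-- `r ∣ q ^ m + 1`, `r ∣ q ^ d - 1` or `r ∣ q ^ d + 1`, `m = 2 ^ i`: then `m ∣ d` -/
theorem dvd_of {q r i d : ℕ} (hr : r.Prime) (hr2 : r ≠ 2) (h1 : r ∣ q ^ 2 ^ i + 1) (h2 : r ∣ q ^ (2 * d) - 1) :
    2 ^ i ∣ d := by
  have : Fact r.Prime := ⟨hr⟩
  have hne : (2 : ZMod r) ≠ 0 := by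
    intro h
    have h3 : ((2 : ℕ) : ZMod r) = 0 := by exact_mod_cast h
    rw [ZMod.natCast_eq_zero_iff] at h3
    exact hr2 ((Nat.prime_dvd_prime_iff_eq hr Nat.prime_two).1 h3)
  have e1 : (q : ZMod r) ^ 2 ^ i = -1 := by
    have h3 : ((q ^ 2 ^ i + 1 : ℕ) : ZMod r) = 0 := (ZMod.natCast_eq_zero_iff _ _).2 h1
    push_cast at h3
    exact eq_neg_of_add_eq_zero_left h3
  have hne1 : (q : ZMod r) ^ 2 ^ i ≠ 1 := by
    rw [e1]
    intro h
    apply hne
    have : (2 : ZMod r) = 1 - (-1) := by norm_num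
    rw [this, h, sub_self]
  have ho : orderOf (q : ZMod r) = 2 ^ (i + 1) := orderOf_eq_prime_pow hne1 (by
    rw [pow_succ, pow_mul, e1]
    norm_num)
  have hq0 : 0 < q := by
    rcases Nat.eq_zero_or_pos q with h | h
    · exfalso
      rw [h, zero_pow (by positivity)] at h1
      exact hr.one_lt.ne' (Nat.dvd_one.1 h1)
    · exact h
  have e2 : (q : ZMod r) ^ (2 * d) = 1 := by
    have h3 : ((q ^ (2 * d) - 1 : ℕ) : ZMod r) = 0 := (ZMod.natCast_eq_zero_iff _ _).2 h2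
    rw [Nat.cast_sub (Nat.one_le_pow _ _ hq0)] at h3
    push_cast at h3
    exact sub_eq_zero.1 h3
  have h3 := orderOf_dvd_of_pow_eq_one e2
  rw [ho, pow_succ, mul_comm 2 d] at h3
  exact Nat.dvd_of_mul_dvd_mul_right (by norm_num) h3

theorem sub_dvd_two_mul (q d : ℕ) : q ^ d - 1 ∣ q ^ (2 * d) - 1 := by
  rw [mul_comm, pow_mul]
  simpa only [_root_.one_pow] using Nat.sub_dvd_pow_sub_pow (q ^ d) 1 2

theorem add_dvd_two_mul (q d : ℕ) : q ^ d + 1 ∣ q ^ (2 * d) - 1 := by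
  rw [mul_comm, pow_mul]
  refine ⟨q ^ d - 1, ?_⟩
  have := Nat.sq_sub_sq (q ^ d) 1
  simpa only [_root_.one_pow] using this

theorem sub_dvd_sub {q a b : ℕ} (h : a ∣ b) : q ^ a - 1 ∣ q ^ b - 1 := by
  obtain ⟨c, rfl⟩ := h
  rw [pow_mul]
  simpa only [_root_.one_pow] using Nat.sub_dvd_pow_sub_pow (q ^ a) 1 c

section

variable {K : Type*} [Field K] [DecidableEq K] {q : ℕ} (hq : Function.Injective (fun x : K => x ^ q)) (hq0 : 0 < q)

theorem IsMin.pow_two {μ : K} {d : ℕ} (hq0 : 0 < q) (h : IsMin q μ d) : μ ^ (q ^ (2 * d) - 1) = 1 := by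
  rcases h.pow hq0 with h1 | h1
  · exact pow_dvd h1 (sub_dvd_two_mul q d)
  · exact pow_dvd h1 (add_dvd_two_mul q d)

include hq hq0

/-- an element whose order is divisible by an odd prime divisor of `q ^ 2 ^ i + 1` has an orbit of length `2 d`, `2 ^ i ∣ d` -/
theorem dvd_of_isMin {μ : K} {d r i : ℕ} (h : IsMin q μ d) (hr : r.Prime) (hr2 : r ≠ 2) (h1 : r ∣ q ^ 2 ^ i + 1)
    (h2 : r ∣ orderOf μ) : 2 ^ i ∣ d :=
  dvd_of hr hr2 h1 (h2.trans (orderOf_dvd_of_pow_eq_one (IsMin.pow_two hq0 h)))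

/-- **Budget.** -/
theorem bud : ∀ (k : ℕ) (R : Multiset K), 1 ≤ k → _root_.Cfsg.Agent.H160.QRoots.Inv q R → R.card ≤ 2 ^ (k + 1) →
    (∀ i, 1 ≤ i → i < k → ∃ s : ℕ, s.Prime ∧ s ≠ 2 ∧ s ∣ q ^ 2 ^ i + 1 ∧ ∃ x ∈ R, s ∣ orderOf x) →
    ∀ x ∈ R, x ^ (q ^ 2 ^ (max k 2) - 1) = 1 := by
  intro k
  induction k with
  | zero => intro R h; omega
  | succ k ih =>
    intro R _ hR hc hs x hx
    rcases Nat.eq_zero_or_pos k with rfl | hk
    · obtain ⟨d, hd⟩ := exists_isMin hq hR hx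
      have h1 := d_le hq hR hd hx
      have h2 := hd.pos
      have h3 : d = 1 ∨ d = 2 := by
        have : 2 ^ (0 + 1 + 1) = 4 := by norm_num
        omega
      refine pow_dvd (IsMin.pow_two hq0 hd) (sub_dvd_sub ?_)
      rcases h3 with rfl | rfl <;> decide
    · have hmax : max (k + 1) 2 = k + 1 := by omega
      rw [hmax]
      obtain ⟨s, hsp, hs2, hsd, μ, hμ, hsμ⟩ := hs k hk (Nat.lt_succ_self k)
      obtain ⟨d, hd⟩ := exists_isMin hq hR hμ
      have h1 : 2 ^ k ∣ d := dvd_of_isMin hq hq0 hd hsp hs2 hsd hsμ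
      obtain ⟨c, rfl⟩ := h1
      have hc0 : 0 < c := by
        rcases Nat.eq_zero_or_pos c with h | h
        · exfalso
          have := hd.pos
          rw [h, mul_zero] at this
          omega
        · exact h
      obtain ⟨R', h3, h4, h5, h6, h7⟩ := peel hq hR hd
      have h8 : 1 ≤ R.count μ := Multiset.one_le_count_iff_mem.2 hμ
      have e2 : 2 ^ (k + 1 + 1) = 4 * 2 ^ k := by rw [pow_succ, pow_succ]; ring
      have h9 : 2 * (2 ^ k * c) + R'.card ≤ 4 * 2 ^ k := by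
        rw [← e2]
        refine le_trans ?_ hc
        rw [h7]
        have := Nat.mul_le_mul_right (2 * (2 ^ k * c)) h8
        omega
      have h10 : c = 1 ∨ (c = 2 ∧ R'.card = 0) := by
        have hp : 0 < 2 ^ k := by positivity
        rcases (by omega : c = 1 ∨ c = 2 ∨ 3 ≤ c) with h | h | h
        · exact Or.inl h
        · right
          refine ⟨h, ?_⟩
          rw [h] at h9
          omega
        · exfalso
          have := Nat.mul_le_mul_left (2 ^ k) h
          omega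
      rcases h10 with rfl | ⟨rfl, h0⟩
      · rw [mul_one] at hd h3 h5 h9
        -- the type of `μ`
        have hμ1 : μ ^ (q ^ 2 ^ (k + 1) - 1) = 1 := by
          have := IsMin.pow_two hq0 hd
          rwa [show 2 * 2 ^ k = 2 ^ (k + 1) by rw [pow_succ]; ring] at this
        have hμ2 : μ ^ (q ^ 2 ^ k + 1) = 1 := by
          rcases hd.pow hq0 with h | h
          · exfalso
            have h11 : s ∣ q ^ 2 ^ k - 1 := hsμ.trans (orderOf_dvd_of_pow_eq_one h)
            have h12 : 1 ≤ q ^ 2 ^ k := Nat.one_le_pow _ _ hq0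
            have h13 : s ∣ 2 := by
              have := Nat.dvd_sub hsd h11
              rwa [show q ^ 2 ^ k + 1 - (q ^ 2 ^ k - 1) = 2 by omega] at this
            exact hs2 ((Nat.prime_dvd_prime_iff_eq hsp Nat.prime_two).1 h13)
          · exact h
        by_cases hxo : x ∈ orb q μ (2 ^ k)
        · exact ex_orb hxo hμ1
        · have hxR' := (h5 x).2 ⟨hx, hxo⟩
          have h11 := ih R' hk h4 (by rw [pow_succ]; omega) (by
            intro i hi hik
            obtain ⟨t, htp, ht2, htd, ν, hν, htν⟩ := hs i hi (by omega)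
            refine ⟨t, htp, ht2, htd, ν, ?_, htν⟩
            refine (h5 ν).2 ⟨hν, ?_⟩
            intro hνo
            have h12 : t ∣ q ^ 2 ^ k + 1 := htν.trans (orderOf_dvd_of_pow_eq_one (ex_orb hνo hμ2))
            have h13 : t ∣ q ^ (2 * 2 ^ i) - 1 := htd.trans (add_dvd_two_mul q _)
            have h14 := dvd_of htp ht2 h12 h13
            have h15 : 2 ^ i < 2 ^ k := Nat.pow_lt_pow_right (by norm_num) hik
            have h16 := Nat.le_of_dvd (by positivity) h14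
            omega) x hxR'
          refine pow_dvd h11 (sub_dvd_sub (pow_dvd_pow 2 ?_))
          omega
      · -- one orbit
        have hR0 : R' = 0 := Multiset.card_eq_zero.1 h0
        have hxo : x ∈ orb q μ (2 ^ k * 2) := by
          by_contra hno
          have := (h5 x).2 ⟨hx, hno⟩
          rw [hR0] at this
          exact Multiset.notMem_zero x this
        rw [← pow_succ] at hxo hd
        rcases hd.pow hq0 with h | h
        · exact ex_orb hxo h
        · exfalso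
          have h11 : s ∣ q ^ 2 ^ (k + 1) + 1 := hsμ.trans (orderOf_dvd_of_pow_eq_one h)
          have h12 := dvd_of hsp hs2 h11 (hsd.trans (add_dvd_two_mul q _))
          have h13 := Nat.le_of_dvd (by positivity) h12
          have h14 : 2 ^ k < 2 ^ (k + 1) := Nat.pow_lt_pow_right (by norm_num) (Nat.lt_succ_self k)
          omega

end

end Cfsg.Agent.H189.TP
end

-- part: H189/TP/Frm
section
/-!
# Block TP (S3536): `iso`, `two`, `tor`, `pr` from the multiset of eigenvalues (helper189)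

`Frm p q n N R` : `N` is the order of an element (of `PSp_{2n}(q)` or `Ω_{2n+1}(q)`), `R` the multiset of the eigenvalues `≠ ±1`.
-/

set_option autoImplicit false
set_option linter.unusedSectionVars false

namespace Cfsg.Agent.H189.TP

open Cfsg.Agent.H160.QRoots Cfsg.Agent.H202.TP

/-- `N` is the order of an element, `R` the multiset of its eigenvalues `≠ ±1` -/
structure Frm {K : Type*} [Field K] [DecidableEq K] (p q n N : ℕ) (R : Multiset K) : Prop where
  frob : Function.Injective (fun x : K => x ^ q)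
  inv : _root_.Cfsg.Agent.H160.QRoots.Inv q R
  card : R.card ≤ 2 * n
  kill : ∃ c, ∀ E, Even E → (∀ x ∈ R, x ^ E = 1) → N ∣ E * p ^ c
  semi : ∀ μ ∈ R, IsMin q μ n → N ∣ (q ^ n - 1) / 2 ∨ N ∣ (q ^ n + 1) / 2

section

variable {K : Type*} [Field K] [DecidableEq K] {p q n N : ℕ} {R : Multiset K}

theorem Frm.exists_mem (h : Frm p q n N R) (hq : 2 ≤ q) (hp : p.Prime) {r : ℕ} (hr : r.Prime) (hr2 : r ≠ 2) (hrp : r ≠ p)
    (hN : r ∣ N) : ∃ x ∈ R, r ∣ orderOf x := by
  by_contra hcon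
  push Not at hcon
  obtain ⟨c, hc⟩ := h.kill
  have h1 := hc (2 * ∏ x ∈ R.toFinset, orderOf x) (even_two_mul _) (fun x hx => by
    apply orderOf_dvd_iff_pow_eq_one.1
    exact (Finset.dvd_prod_of_mem _ (Multiset.mem_toFinset.2 hx)).mul_left 2)
  rcases (Nat.Prime.dvd_mul hr).1 (hN.trans h1) with h2 | h2
  · rcases (Nat.Prime.dvd_mul hr).1 h2 with h3 | h3
    · exact hr2 ((Nat.prime_dvd_prime_iff_eq hr Nat.prime_two).1 h3)
    · obtain ⟨x, hx, hrx⟩ := (Prime.dvd_finsetProd_iff hr.prime _).1 h3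
      exact hcon x (Multiset.mem_toFinset.1 hx) hrx
  · exact hrp ((Nat.prime_dvd_prime_iff_eq hr hp).1 (hr.dvd_of_dvd_pow h2))

end

section

variable {K : Type*} [Field K] [DecidableEq K] {p q k N : ℕ} {R : Multiset K}

/-- the primes -/
theorem Frm.pr (h : Frm p q (2 ^ k) N R) (hp : p.Prime) (hq : Odd q) (hq3 : 3 ≤ q) {r : ℕ} (hr : r.Prime) (hN : r ∣ N) :
    r = p ∨ ∃ i, 1 ≤ i ∧ i ≤ 2 ^ k ∧ r ∣ q ^ (2 * i) - 1 := by
  by_cases hrp : r = p
  · exact Or.inl hrp
  right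
  by_cases hr2 : r = 2
  · refine ⟨1, le_rfl, Nat.one_le_two_pow, ?_⟩
    rw [hr2]
    exact even_iff_two_dvd.1 (Nat.Odd.sub_odd hq.pow odd_one)
  obtain ⟨x, hx, hrx⟩ := h.exists_mem (by omega) hp hr hr2 hrp hN
  obtain ⟨d, hd⟩ := exists_isMin h.frob h.inv hx
  have h1 := d_le h.frob h.inv hd hx
  have h2 := h.card
  exact ⟨d, hd.pos, by omega, hrx.trans (orderOf_dvd_of_pow_eq_one (IsMin.pow_two (by omega) hd))⟩

theorem not_both (hk : 3 ≤ k) (hq : Odd q) {r : ℕ} (hr : r.Prime) (h1 : r ∣ mn q k) (h2 : r ∣ (q ^ 2 ^ k - 1) / 2) :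
    False := by
  have h4 := half_mn (k := k) (by omega) hq
  have h5 : 0 < mn q k := by
    have := two_mn (k := k) (by omega) hq
    omega
  rw [h4] at h2
  have h6 := (Nat.dvd_sub_iff_right (by omega : mn q k - 1 ≤ mn q k) h1).2 h2
  rw [show mn q k - (mn q k - 1) = 1 by omega] at h6
  exact hr.one_lt.ne' (Nat.dvd_one.1 h6)

theorem ne_two_of_dvd_mn (hk : 3 ≤ k) (hq : Odd q) {r : ℕ} (hr : r ∣ mn q k) : r ≠ 2 := by
  rintro rfl
  rw [Cfsg.Agent.H202.TP.mn_eq (by omega : 2 ≤ k)] at hr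
  have h3 : Odd (q ^ 2 ^ (k - 2)) := hq.pow
  have := Cfsg.Agent.H202.T.mm_mod h3
  omega

/-- **isolation** -/
theorem Frm.iso (h : Frm p q (2 ^ k) N R) (hp : p.Prime) (hpq : p ∣ q) (hk : 3 ≤ k) (hq : Odd q) (hq3 : 3 ≤ q) {r : ℕ}
    (hr : r.Prime) (hrm : r ∣ mn q k) (hN : r ∣ N) : N ∣ mn q k := by
  have hr2 := ne_two_of_dvd_mn hk hq hrm
  have hrq : r ∣ q ^ 2 ^ k + 1 := by
    rw [← two_mn (by omega) hq]
    exact hrm.mul_left 2
  have hrp : r ≠ p := by
    rintro rfl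
    have h1 : r ∣ q ^ 2 ^ k := dvd_pow hpq (by positivity)
    exact hr.one_lt.ne' (Nat.dvd_one.1 ((Nat.dvd_add_right h1).1 hrq))
  obtain ⟨x, hx, hrx⟩ := h.exists_mem (by omega) hp hr hr2 hrp hN
  obtain ⟨d, hd⟩ := exists_isMin h.frob h.inv hx
  have h1 := d_le h.frob h.inv hd hx
  have h2 := h.card
  have h3 := dvd_of_isMin h.frob (by omega) hd hr hr2 hrq hrx
  have h4 := Nat.le_of_dvd hd.pos h3
  obtain rfl : d = 2 ^ k := by omega
  rcases h.semi x hx hd with h5 | h5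
  · exact (not_both hk hq hr hrm (hN.trans h5)).elim
  · exact h5

/-- the 2-parts of `q ^ d - 1` and `q ^ d + 1`, `d < 2 ^ k` -/
theorem two_part (hq : Odd q) (hq3 : 3 ≤ q) {d : ℕ} (hd : 0 < d) (hdk : d < 2 ^ k) {M : ℕ}
    (hM : M = q ^ d - 1 ∨ M = q ^ d + 1) : ∃ B, Odd B ∧ M ∣ (q ^ 2 ^ k - 1) / 2 * B := by
  obtain ⟨i, m, hm, rfl⟩ := Nat.exists_eq_two_pow_mul_odd hd.ne'
  have hik : i < k := by
    by_contra hcon
    have h1 : 2 ^ k ≤ 2 ^ i := Nat.pow_le_pow_right (by norm_num) (by omega)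
    have h2 : 1 ≤ m := hm.pos
    have := Nat.mul_le_mul_left (2 ^ i) h2
    omega
  -- `(Q ^ m ∓ 1) = (Q ∓ 1) B`
  set Q := q ^ 2 ^ i with hQ
  have hQo : Odd Q := hq.pow
  have hQ3 : 3 ≤ Q := hq3.trans (Nat.le_self_pow (by positivity) q)
  have hhalf : ∀ A : ℕ, 2 * A ∣ q ^ 2 ^ k - 1 → A ∣ (q ^ 2 ^ k - 1) / 2 := by
    intro A hA
    obtain ⟨c, hc⟩ := hA
    refine ⟨c, ?_⟩
    rw [hc, mul_assoc]
    exact Nat.mul_div_cancel_left _ (by norm_num)
  have h2Q : Q ^ 2 - 1 ∣ q ^ 2 ^ k - 1 := by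
    rw [hQ, ← pow_mul, ← pow_succ]
    exact sub_dvd_sub (pow_dvd_pow 2 (by omega))
  have hsq : Q ^ 2 - 1 = (Q + 1) * (Q - 1) := by simpa only [_root_.one_pow] using Nat.sq_sub_sq Q 1
  have hev1 : 2 ∣ Q + 1 := even_iff_two_dvd.1 hQo.add_one
  have hev2 : 2 ∣ Q - 1 := even_iff_two_dvd.1 (Nat.Odd.sub_odd hQo odd_one)
  rcases hM with rfl | rfl
  · obtain ⟨B, hB⟩ : Q - 1 ∣ Q ^ m - 1 := by simpa only [_root_.one_pow] using Nat.sub_dvd_pow_sub_pow Q 1 m
    have hBo : Odd B := by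
      -- `B` is a sum of `m` odd numbers
      have h1 : (Q - 1) * (∑ j ∈ Finset.range m, Q ^ j) = Q ^ m - 1 := by
        have := Nat.geomSum_eq (by omega : 2 ≤ Q) m
        rw [this]
        exact Nat.mul_div_cancel' (by simpa only [_root_.one_pow] using Nat.sub_dvd_pow_sub_pow Q 1 m)
      have h2 : B = ∑ j ∈ Finset.range m, Q ^ j := by
        apply Nat.eq_of_mul_eq_mul_left (by (clear * - hQ3; omega) : 0 < Q - 1)
        rw [h1, ← hB]
      rw [h2, Finset.odd_sum_iff_odd_card_odd]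
      rw [Finset.filter_true_of_mem (fun j _ => hQo.pow), Finset.card_range]
      exact hm
    refine ⟨B, hBo, ?_⟩
    rw [pow_mul, hB]
    apply Nat.mul_dvd_mul_right
    apply hhalf
    refine dvd_trans ?_ h2Q
    rw [hsq]
    exact Nat.mul_dvd_mul_right hev1 _
  · obtain ⟨B, hB⟩ : Q + 1 ∣ Q ^ m + 1 := by simpa using Odd.nat_add_dvd_pow_add_pow Q 1 hm
    have hBo : Odd B := by
      -- `Q ^ m - 1 = (Q - 1) C`, `C` odd, and `Q ^ (2 m) - 1 = (Q ^ 2 - 1) D`, `D` odd, `D = B C`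
      have h1 : ∀ X : ℕ, Odd X → 3 ≤ X → ∃ C, Odd C ∧ X ^ m - 1 = (X - 1) * C := by
        intro X hX hX3
        refine ⟨∑ j ∈ Finset.range m, X ^ j, ?_, ?_⟩
        · rw [Finset.odd_sum_iff_odd_card_odd]
          rw [Finset.filter_true_of_mem (fun j _ => hX.pow), Finset.card_range]
          exact hm
        · have := Nat.geomSum_eq (by omega : 2 ≤ X) m
          rw [this]
          exact (Nat.mul_div_cancel' (by simpa only [_root_.one_pow] using Nat.sub_dvd_pow_sub_pow X 1 m)).symm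
      obtain ⟨C, hC, hC1⟩ := h1 Q hQo hQ3
      obtain ⟨D, hD, hD1⟩ := h1 (Q ^ 2) hQo.pow (hQ3.trans (Nat.le_self_pow (by norm_num) Q))
      have h3 : (Q ^ 2) ^ m - 1 = (Q ^ m + 1) * (Q ^ m - 1) := by
        rw [← pow_mul, mul_comm, pow_mul]
        simpa only [_root_.one_pow] using Nat.sq_sub_sq (Q ^ m) 1
      rw [hD1, hB, hC1, hsq] at h3
      have h4 : D = B * C := by
        apply Nat.eq_of_mul_eq_mul_left (by have : 0 < Q - 1 := by (clear * - hQ3; omega)
                                            (clear * - hq3 this; positivity) : 0 < (Q + 1) * (Q - 1))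
        rw [h3]; ring
      rw [h4] at hD
      exact (Nat.odd_mul.1 hD).1
    refine ⟨B, hBo, ?_⟩
    rw [pow_mul, hB]
    apply Nat.mul_dvd_mul_right
    apply hhalf
    refine dvd_trans ?_ h2Q
    rw [hsq, mul_comm]
    exact Nat.mul_dvd_mul_left _ hev2

/-- **the powers of 2** -/
theorem Frm.two (h : Frm p q (2 ^ k) N R) (hp : p.Prime) (hp2 : p ≠ 2) (hk : 3 ≤ k) (hq : Odd q) (hq3 : 3 ≤ q) {j : ℕ}
    (hj : 2 ^ j ∣ N) : 2 ^ j ∣ mn q k - 1 := by
  rw [← half_mn (by omega) hq]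
  by_cases hex : ∃ μ ∈ R, IsMin q μ (2 ^ k)
  · obtain ⟨μ, hμ, hd⟩ := hex
    rcases h.semi μ hμ hd with h1 | h1
    · exact hj.trans h1
    · have h2 : 2 ^ j ∣ mn q k := hj.trans h1
      rcases Nat.eq_zero_or_pos j with rfl | hj0
      · simp
      · exact absurd rfl (ne_two_of_dvd_mn hk hq ((dvd_pow_self 2 hj0.ne').trans h2))
  · push Not at hex
    have h1 : ∀ x ∈ R, ∃ B, Odd B ∧ x ^ ((q ^ 2 ^ k - 1) / 2 * B) = 1 := by
      intro x hx
      obtain ⟨d, hd⟩ := exists_isMin h.frob h.inv hx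
      have h2 := d_le h.frob h.inv hd hx
      have h3 := h.card
      have h4 : d ≠ 2 ^ k := by
        rintro rfl
        exact hex x hx hd
      rcases hd.pow (by omega) with h5 | h5
      · obtain ⟨B, hB, hB1⟩ := two_part (k := k) hq hq3 hd.pos (by omega) (Or.inl rfl)
        exact ⟨B, hB, pow_dvd h5 hB1⟩
      · obtain ⟨B, hB, hB1⟩ := two_part (k := k) hq hq3 hd.pos (by omega) (Or.inr rfl)
        exact ⟨B, hB, pow_dvd h5 hB1⟩
    obtain ⟨B, hB, hB1⟩ : ∃ B, Odd B ∧ ∀ x ∈ R, x ^ ((q ^ 2 ^ k - 1) / 2 * B) = 1 := by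
      choose! f hf1 hf2 using h1
      refine ⟨∏ x ∈ R.toFinset, f x, ?_, fun x hx => ?_⟩
      · apply Finset.prod_induction _ Odd (fun a b ha hb => ha.mul hb) odd_one
        intro x hx
        exact hf1 x (Multiset.mem_toFinset.1 hx)
      · exact pow_dvd (hf2 x hx) (Nat.mul_dvd_mul_left _ (Finset.dvd_prod_of_mem _ (Multiset.mem_toFinset.2 hx)))
    obtain ⟨c, hc⟩ := h.kill
    have hA : Even ((q ^ 2 ^ k - 1) / 2) := by
      rw [half_mn (by omega) hq]
      have h3 : ¬ 2 ∣ mn q k := fun h => ne_two_of_dvd_mn (k := k) hk hq h rfl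
      exact Nat.Odd.sub_odd (Nat.not_even_iff_odd.1 fun h => h3 (even_iff_two_dvd.1 h)) odd_one
    have h2 := hj.trans (hc _ (hA.mul_right B) hB1)
    have h3 : Nat.Coprime (2 ^ j) (B * p ^ c) := Nat.Coprime.pow_left j (Nat.coprime_two_left.2
      (hB.mul (hp.odd_of_ne_two hp2).pow))
    rw [mul_assoc] at h2
    exact h3.dvd_of_dvd_mul_right h2

/-- **the torus** -/
theorem Frm.tor (h : Frm p q (2 ^ k) N R) (hp : p.Prime) (hpq : p ∣ q) (hk : 3 ≤ k) (hq : Odd q) (hq3 : 3 ≤ q)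
    (hs : ∀ i, 1 ≤ i → i < k → ∃ s : ℕ, s.Prime ∧ s ≠ 2 ∧ s ∣ q ^ 2 ^ i + 1 ∧ s ∣ N) :
    ∃ j, N ∣ p ^ j * (q ^ 2 ^ k - 1) := by
  obtain ⟨c, hc⟩ := h.kill
  refine ⟨c, ?_⟩
  rw [mul_comm]
  apply hc _ (Nat.Odd.sub_odd hq.pow odd_one)
  have h1 := bud h.frob (by omega : 0 < q) k R (by omega) h.inv (by rw [pow_succ, mul_comm]; exact h.card) (by
    intro i hi hik
    obtain ⟨s, hsp, hs2, hsd, hsN⟩ := hs i hi hik
    refine ⟨s, hsp, hs2, hsd, h.exists_mem (by omega) hp hsp hs2 ?_ hsN⟩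
    rintro rfl
    have h1 : s ∣ q ^ 2 ^ i := dvd_pow hpq (by positivity)
    exact hsp.one_lt.ne' (Nat.dvd_one.1 ((Nat.dvd_add_right h1).1 hsd)))
  rwa [show max k 2 = k by omega] at h1

end

end Cfsg.Agent.H189.TP
end

-- part: H189/TP/UpOm
section
/-!
# Block TP (S3536): upper bounds for the element orders of `Ω_{2n+1}(q)`, `n = 2 ^ k ≥ 8` (helper189)
-/

set_option autoImplicit false
set_option linter.unusedSectionVars false

namespace Cfsg.Agent.H189.TP

open QuadraticMap Module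
open Cfsg.Agent.LieClassical.OrthCore Cfsg.Agent.H160.QSpin Cfsg.Agent.H160.QDisc Cfsg.Agent.H160.QSplit
  Cfsg.Agent.H160.QSemi Cfsg.Agent.H160.QRoots Cfsg.Agent.H160.QChar Cfsg.Agent.H160.QUpper
open Cfsg.Agent.H202.TP

universe u

section

variable {F : Type u} [Field F] [Fintype F] [DecidableEq F] {V : Type u} [AddCommGroup V] [Module F V]
  [FiniteDimensional F V] [Finite V] {p : ℕ} [hp : Fact p.Prime] [CharP F p]

theorem frm (h2 : (2 : F) ≠ 0) {Q : QuadraticForm F V} (hQ : Nondeg Q) {n : ℕ} (hn : 1 ≤ n)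
    (hV : finrank F V = 2 * n + 1) {g : V ≃ₗ[F] V} (hg : El Q 1 g) :
    ∃ (K : Type u) (_ : Field K) (_ : DecidableEq K) (R : Multiset K), Frm p (Fintype.card F) n (orderOf g) R := by
  classical
  have hpp := hp.out
  obtain ⟨n₀, n₁, n₂, Q₀, k, hsum, ev0, ev1, hQ₀, hkO, hno, hnm, hall, hzero⟩ :=
    Cfsg.Agent.H104.UpNine.dec (p := p) h2 hQ hg
  rw [hV] at hsum
  have hInv := inv_rts hQ₀ hkO hno hnm
  have hcard := card_rts (en k)
  simp only [finrank_fintype_fun_eq_card, Fintype.card_fin] at hcard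
  have hex : ∀ {M N c : ℕ}, Bd (rts (en k)) M N → M ≤ p ^ c → k ^ (N * p ^ c) = 1 := by
    intro M N c hB hc
    apply en_inj
    rw [en_pow]
    exact pow_eq_one_of_bd hB hc
  obtain ⟨t0, ht0⟩ := ev0
  obtain ⟨t1, ht1⟩ := ev1
  refine ⟨AlgebraicClosure F, inferInstance, inferInstance, rts (en k), frob_inj F, hInv, by omega, ?_, ?_⟩
  · refine ⟨2 * n + 1, fun E hE hR => ?_⟩
    have h1 : 2 * n + 1 < p ^ (2 * n + 1) := Nat.lt_pow_self hpp.one_lt
    have hB : Bd (rts (en k)) (2 * n + 1) E := ⟨fun x => (Multiset.count_le_card x _).trans (by omega), hR⟩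
    exact hall (2 * n + 1) _ (by omega) (by omega) (Nat.mul_dvd_mul_right (even_iff_two_dvd.1 hE) _) (hex hB h1.le)
  · intro μ hμ hmin
    have h1 : 2 * n ≤ (rts (en k)).card := d_le (frob_inj F) hInv hmin hμ
    have h3 : n₀ = 2 * n := by (clear * - hsum hcard ht0 h1; omega)
    obtain ⟨hel, hz⟩ := hzero (by (clear * - hsum ht1 h3; omega))
    obtain ⟨R', h4, h5, h6, h7, h8⟩ := peel (frob_inj F) hInv hmin
    have h9 : 1 ≤ (rts (en k)).count μ := Multiset.one_le_count_iff_mem.2 hμ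
    have h8' : n₀ = (rts (en k)).count μ * (2 * n) + R'.card := hcard.symm.trans h8
    have h4' : rts (en k) = (rts (en k)).count μ • (orb (Fintype.card F) μ n).val + R' := h4
    have h10 : (rts (en k)).count μ = 1 ∧ R'.card = 0 := by
      have h11 := Nat.mul_le_mul_right (2 * n) h9
      have h12 : (rts (en k)).count μ ≤ 1 := by
        by_contra hcon
        have := Nat.mul_le_mul_right (2 * n) (by omega : 2 ≤ (rts (en k)).count μ)
        (clear * - hn h3 h8' this; omega)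
      have h13 : (rts (en k)).count μ = 1 := by omega
      rw [h13] at h8'
      exact ⟨h13, by (clear * - h3 h8'; omega)⟩
    have hR : rts (en k) = (orb (Fintype.card F) μ n).val := by
      have h11 : R' = 0 := Multiset.card_eq_zero.1 h10.2
      rw [h11, h10.1, one_nsmul, add_zero] at h4'
      exact h4'
    have key : ∀ N, k ^ N = 1 → orderOf g ∣ N := fun N h => hz 0 N (by rw [pow_zero]; (clear * - hsum h3; omega)) (by simp) h
    rcases Cfsg.Agent.H104.QSemiB.semi h2 hQ₀ hn (by simp only [h3, _root_.Module.finrank_fintype_fun_eq_card, _root_.Fintype.card_fin]) hel hmin hR with h | h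
    · exact Or.inl (key _ (orderOf_dvd_iff_pow_eq_one.1 h))
    · exact Or.inr (key _ (orderOf_dvd_iff_pow_eq_one.1 h))

end

section group

variable {F : Type u} [Field F] [Fintype F]

/-- the frame of an element of `PΩ_{2n+1}(q)` -/
theorem frm_omega (hodd : Odd (Fintype.card F)) {p : ℕ} [hp : Fact p.Prime] [CharP F p] {n : ℕ} (hn : 2 ≤ n)
    (x : Cfsg.POmega F (Cfsg.quadFormOdd n F)) :
    ∃ (K : Type u) (_ : Field K) (_ : DecidableEq K) (R : Multiset K), Frm p (Fintype.card F) n (orderOf x) R := by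
  classical
  have h2 := Cfsg.Agent.H104.UpNine.two_ne hodd
  have h9 := Cfsg.Agent.LieClassical.OrthForms.nondeg_oddForm n F h2
  have hcard : Fintype.card (Unit ⊕ (Fin n ⊕ Fin n)) = 2 * n + 1 := by simp only [_root_.Fintype.card_sum, _root_.Fintype.card_unique, _root_.Fintype.card_fin]; omega
  have key : ∀ (f : (Unit ⊕ (Fin n ⊕ Fin n) → F) → F) (hf : f = ⇑(Cfsg.Agent.LieClassical.OrthForms.oddForm n F))
      (x : Cfsg.POmega F f), ∃ (K : Type u) (_ : Field K) (_ : DecidableEq K) (R : Multiset K),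
        Frm p (Fintype.card F) n (orderOf x) R := by
    intro f hf x
    subst hf
    obtain ⟨g, hg, ho⟩ := (Cfsg.Agent.H160.QFinal.range_POmega h2 h9 (by rw [hcard]; omega)
      (by rw [hcard]; exact odd_two_mul_add_one n) (orderOf x)).1 ⟨x, rfl⟩
    rw [← ho]
    exact frm (p := p) h2 h9 (by omega) (by rw [finrank_fintype_fun_eq_card, hcard]) hg
  exact key _ (Cfsg.Agent.LieClassical.OrthForms.coe_oddForm n F).symm x

variable {p a k : ℕ}

theorem two_le_pow (hk : 3 ≤ k) : 2 ≤ 2 ^ k := by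
  calc 2 = 2 ^ 1 := by norm_num
    _ ≤ 2 ^ k := Nat.pow_le_pow_right (by norm_num) (by omega)

theorem setup (hp : p.Prime) (hp2 : p ≠ 2) (ha : Odd a) (hF : Fintype.card F = p ^ a) :
    Odd (Fintype.card F) ∧ p ∣ Fintype.card F ∧ 3 ≤ Fintype.card F ∧ CharP F p := by
  have h1 : Odd (Fintype.card F) := by
    rw [hF]
    exact (hp.odd_of_ne_two hp2).pow
  have h2 : p ∣ Fintype.card F := by
    rw [hF]
    exact dvd_pow_self p (by rintro rfl; exact absurd ha (by decide))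
  have h3 := Fintype.one_lt_card (α := F)
  refine ⟨h1, h2, ?_, ?_⟩
  · obtain ⟨c, hc⟩ := h1
    omega
  · obtain ⟨r, hr⟩ := CharP.exists F
    obtain ⟨m, hrp, hm⟩ := FiniteField.card F r
    rw [hm] at h2
    have h4 := (Nat.prime_dvd_prime_iff_eq hp hrp).1 (hp.dvd_of_dvd_pow h2)
    rw [h4]
    exact hr

variable (hp : p.Prime) (hp2 : p ≠ 2) (ha : Odd a) (hF : Fintype.card F = p ^ a) (hk : 3 ≤ k)
  (x : Cfsg.POmega F (Cfsg.quadFormOdd (2 ^ k) F))
include hp hp2 ha hF hk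

theorem omega_iso (r : ℕ) (hr : r.Prime) (hrm : r ∣ mn (Fintype.card F) k) (hrx : r ∣ orderOf x) :
    orderOf x ∣ mn (Fintype.card F) k := by
  obtain ⟨h1, h2, h3, h4⟩ := setup hp hp2 ha hF
  have : Fact p.Prime := ⟨hp⟩
  obtain ⟨K, _, _, R, h⟩ := frm_omega (p := p) h1 (two_le_pow hk) x
  exact h.iso hp h2 hk h1 h3 hr hrm hrx

theorem omega_two (j : ℕ) (hj : 2 ^ j ∣ orderOf x) : 2 ^ j ∣ mn (Fintype.card F) k - 1 := by
  obtain ⟨h1, h2, h3, h4⟩ := setup hp hp2 ha hF
  have : Fact p.Prime := ⟨hp⟩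
  obtain ⟨K, _, _, R, h⟩ := frm_omega (p := p) h1 (two_le_pow hk) x
  exact h.two hp hp2 hk h1 h3 hj

theorem omega_tor (hs : ∀ i, 1 ≤ i → i < k → ∃ s : ℕ, s.Prime ∧ s ≠ 2 ∧ s ∣ Fintype.card F ^ 2 ^ i + 1 ∧ s ∣ orderOf x) :
    ∃ j, orderOf x ∣ p ^ j * (Fintype.card F ^ 2 ^ k - 1) := by
  obtain ⟨h1, h2, h3, h4⟩ := setup hp hp2 ha hF
  have : Fact p.Prime := ⟨hp⟩
  obtain ⟨K, _, _, R, h⟩ := frm_omega (p := p) h1 (two_le_pow hk) x
  exact h.tor hp h2 hk h1 h3 hs

omit x in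
theorem omega_pr (r : ℕ) (hr : r.Prime) (hrd : r ∣ Nat.card (Cfsg.POmega F (Cfsg.quadFormOdd (2 ^ k) F))) :
    r = p ∨ ∃ i, 1 ≤ i ∧ i ≤ 2 ^ k ∧ r ∣ Fintype.card F ^ (2 * i) - 1 := by
  obtain ⟨h1, h2, h3, h4⟩ := setup hp hp2 ha hF
  have : Fact p.Prime := ⟨hp⟩
  have : Fact r.Prime := ⟨hr⟩
  have : Finite (Cfsg.POmega F (Cfsg.quadFormOdd (2 ^ k) F)) := by
    unfold Cfsg.POmega
    infer_instance
  obtain ⟨x, hx⟩ := exists_prime_orderOf_dvd_card' r hrd
  obtain ⟨K, _, _, R, h⟩ := frm_omega (p := p) h1 (two_le_pow hk) x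
  exact h.pr hp h1 h3 hr (by rw [hx])

end group

end Cfsg.Agent.H189.TP
end

-- part: H164/PCoc
section
/-!
# S3536, piece P-COC: a coclique of four classes of primes in `PSp_{2n}(q)`, `Ω_{2n+1}(q)`, `n = 2 ^ k ≥ 8` (helper164)

The classes `e r = orderOf (q : ZMod r)` are `2n`, `2(n-1)`, `n-1`, `n`.

* `Cls q n r0 r1 r2 r3` : the primes `r0`, .., `r3` are in these classes; `exists_cls`;
* `isCoq_psp`, `isCoq_odd` : `{r0, r1, r2, r3}` is a coclique;
* `order_iff` : `e r = 2n` iff `r ∣ mn q k` (`r` an odd prime);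
* `coc_of` : the field `coc` of `TK`; `coc_psp`, `coc_odd` : existence.
-/

set_option autoImplicit false
set_option linter.unusedSectionVars false

namespace Cfsg.Agent.H164.PCoc

open Module Cfsg Matrix QuadraticMap
open Cfsg.Agent.H390 Cfsg.Agent.H390.NonAdj
open Cfsg.Agent.LieClassical.OrthCount Cfsg.Agent.LieClassical.OmegaReindex Cfsg.Agent.LieClassical
open Cfsg.Agent.H420.QR (IsCoq)
open Cfsg.Agent.H202.TP (mn)

/-! ### the classes -/

/-- primes of the classes `2n`, `2(n-1)`, `n-1`, `n` -/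
structure Cls (q n r0 r1 r2 r3 : ℕ) : Prop where
  p0 : r0.Prime
  p1 : r1.Prime
  p2 : r2.Prime
  p3 : r3.Prime
  e0 : orderOf (q : ZMod r0) = 2 * n
  e1 : orderOf (q : ZMod r1) = 2 * (n - 1)
  e2 : orderOf (q : ZMod r2) = n - 1
  e3 : orderOf (q : ZMod r3) = n

theorem exists_cls {q n : ℕ} (hq : 3 ≤ q) (hn : 8 ≤ n) : ∃ r0 r1 r2 r3, Cls q n r0 r1 r2 r3 := by
  obtain ⟨r0, p0, e0⟩ := Lib.Zsigmondy.exists_prime_orderOf (a := q) (n := 2 * n) (by omega) (by omega)
    (by omega) (by omega)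
  obtain ⟨r1, p1, e1⟩ := Lib.Zsigmondy.exists_prime_orderOf (a := q) (n := 2 * (n - 1)) (by omega) (by omega)
    (by omega) (by omega)
  obtain ⟨r2, p2, e2⟩ := Lib.Zsigmondy.exists_prime_orderOf (a := q) (n := n - 1) (by omega) (by omega)
    (by omega) (by omega)
  obtain ⟨r3, p3, e3⟩ := Lib.Zsigmondy.exists_prime_orderOf (a := q) (n := n) (by omega) (by omega)
    (by omega) (by omega)
  exact ⟨r0, r1, r2, r3, p0, p1, p2, p3, e0, e1, e2, e3⟩

/-- a prime of class `e ≥ 7` is at least 11 -/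
theorem ge_eleven {q r e : ℕ} (hr : r.Prime) (he : orderOf (q : ZMod r) = e) (h7 : 7 ≤ e) : 11 ≤ r := by
  obtain ⟨-, -, -, -, h⟩ := prim_cond hr he (by omega)
  by_contra hlt
  have h1 : r = 8 ∨ r = 9 ∨ r = 10 := by omega
  rcases h1 with rfl | rfl | rfl <;> exact absurd hr (by norm_num)

section

variable {q n r0 r1 r2 r3 : ℕ}

theorem Cls.ge0 (h : Cls q n r0 r1 r2 r3) (hn : 8 ≤ n) : 11 ≤ r0 := ge_eleven h.p0 h.e0 (by omega)

theorem Cls.ge1 (h : Cls q n r0 r1 r2 r3) (hn : 8 ≤ n) : 11 ≤ r1 := ge_eleven h.p1 h.e1 (by omega)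

theorem Cls.ge2 (h : Cls q n r0 r1 r2 r3) (hn : 8 ≤ n) : 11 ≤ r2 := ge_eleven h.p2 h.e2 (by omega)

theorem Cls.ge3 (h : Cls q n r0 r1 r2 r3) (hn : 8 ≤ n) : 11 ≤ r3 := ge_eleven h.p3 h.e3 (by omega)

/-- the four primes are different -/
theorem Cls.ne (h : Cls q n r0 r1 r2 r3) (hn : 8 ≤ n) :
    r0 ≠ r1 ∧ r0 ≠ r2 ∧ r0 ≠ r3 ∧ r1 ≠ r2 ∧ r1 ≠ r3 ∧ r2 ≠ r3 := by
  obtain ⟨-, -, -, -, e0, e1, e2, e3⟩ := h
  refine ⟨?_, ?_, ?_, ?_, ?_, ?_⟩
  · rintro rfl
    omega
  · rintro rfl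
    omega
  · rintro rfl
    omega
  · rintro rfl
    omega
  · rintro rfl
    omega
  · rintro rfl
    omega

theorem Cls.card (h : Cls q n r0 r1 r2 r3) (hn : 8 ≤ n) : ({r0, r1, r2, r3} : Finset ℕ).card = 4 := by
  obtain ⟨h1, h2, h3, h4, h5, h6⟩ := h.ne hn
  rw [Finset.card_insert_of_notMem, Finset.card_insert_of_notMem, Finset.card_insert_of_notMem, Finset.card_singleton]
  · simpa using h6
  · simp only [Finset.mem_insert, Finset.mem_singleton, not_or]
    exact ⟨h4, h5⟩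
  · simp only [Finset.mem_insert, Finset.mem_singleton, not_or]
    exact ⟨h1, h2, h3⟩

end

/-! ### cocliques -/

/-- the primes of the classes with `η(e) ≤ n` divide the order -/
def Dv (L : Type*) [Group L] (q n : ℕ) : Prop :=
  ∀ r e η : ℕ, r.Prime → orderOf (q : ZMod r) = e → 3 ≤ e → IsEta e η → η ≤ n → r ∣ Nat.card L

theorem isCoq_of {L : Type*} [Group L] {q n : ℕ} (hq : 3 ≤ q) (hn : 8 ≤ n) (hev : Even n) (hna : NA L q n)
    (hdv : Dv L q n) {r0 r1 r2 r3 : ℕ} (h : Cls q n r0 r1 r2 r3) : IsCoq L {r0, r1, r2, r3} := by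
  obtain ⟨d01, d02, d03, d12, d13, d23⟩ := h.ne hn
  obtain ⟨p0, p1, p2, p3, e0, e1, e2, e3⟩ := h
  obtain ⟨m, hm⟩ := hev
  have g0 : IsEta (2 * n) n := eta_even n
  have g1 : IsEta (2 * (n - 1)) (n - 1) := eta_even _
  have g2 : IsEta (n - 1) (n - 1) := Or.inl ⟨⟨m - 1, by omega⟩, rfl⟩
  have g3 : IsEta n m := Or.inr ⟨⟨m, hm⟩, by omega⟩
  have k01 : ∀ g : L, orderOf g ≠ r0 * r1 := hna r0 r1 _ _ _ _ p0 p1 e0 e1 d01 (by omega) (by omega) g0 g1 (by omega)
    (by omega) (by omega) (rat_lt (by omega) (by omega))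
  have k02 : ∀ g : L, orderOf g ≠ r0 * r2 := hna r0 r2 _ _ _ _ p0 p2 e0 e2 d02 (by omega) (by omega) g0 g2 (by omega)
    (by omega) (by omega) (rat_lt (by omega) (by omega))
  have k03 : ∀ g : L, orderOf g ≠ r0 * r3 := hna r0 r3 _ _ _ _ p0 p3 e0 e3 d03 (by omega) (by omega) g0 g3 (by omega)
    (by omega) (by omega) (rat_two (by omega))
  have k12 : ∀ g : L, orderOf g ≠ r1 * r2 := hna r1 r2 _ _ _ _ p1 p2 e1 e2 d12 (by omega) (by omega) g1 g2 (by omega)
    (by omega) (by omega) (rat_two (by omega))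
  have k13 : ∀ g : L, orderOf g ≠ r1 * r3 := hna r1 r3 _ _ _ _ p1 p3 e1 e3 d13 (by omega) (by omega) g1 g3 (by omega)
    (by omega) (by omega) (rat_lt (by omega) (by omega))
  have k23 : ∀ g : L, orderOf g ≠ r2 * r3 := hna r2 r3 _ _ _ _ p2 p3 e2 e3 d23 (by omega) (by omega) g2 g3 (by omega)
    (by omega) (by omega) (rat_lt' (by omega) (by omega))
  refine ⟨?_, ?_, ?_⟩
  · intro r hr
    simp only [Finset.mem_insert, Finset.mem_singleton] at hr
    rcases hr with rfl | rfl | rfl | rfl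
    · exact p0
    · exact p1
    · exact p2
    · exact p3
  · intro r hr
    simp only [Finset.mem_insert, Finset.mem_singleton] at hr
    rcases hr with rfl | rfl | rfl | rfl
    · exact hdv _ _ _ p0 e0 (by omega) g0 le_rfl
    · exact hdv _ _ _ p1 e1 (by (clear * - hn; omega)) g1 (by (clear * - hn e3 hm d01 d12 d13; omega))
    · exact hdv _ _ _ p2 e2 (by (clear * - hn; omega)) g2 (by (clear * - hn e3 hm d02 d12 d23 e2; omega))
    · exact hdv _ _ _ p3 e3 (by omega) g3 (by omega)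
  · intro r hr s hs hrs
    simp only [Finset.mem_insert, Finset.mem_singleton] at hr hs
    rintro ⟨g, hg⟩
    rcases hr with rfl | rfl | rfl | rfl <;> rcases hs with rfl | rfl | rfl | rfl
    · exact hrs rfl
    · exact k01 g hg
    · exact k02 g hg
    · exact k03 g hg
    · exact k01 g (by rw [hg, mul_comm])
    · exact hrs rfl
    · exact k12 g hg
    · exact k13 g hg
    · exact k02 g (by rw [hg, mul_comm])
    · exact k12 g (by rw [hg, mul_comm])
    · exact hrs rfl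
    · exact k23 g hg
    · exact k03 g (by rw [hg, mul_comm])
    · exact k13 g (by rw [hg, mul_comm])
    · exact k23 g (by rw [hg, mul_comm])
    · exact hrs rfl

/-! ### the groups -/

section groups

variable {F : Type*} [Field F] [Fintype F]

theorem na_psp' {n : ℕ} (hn : 3 ≤ n) : NA (PSp n F) (Nat.card F) n := by
  intro r s er es ηr ηs hr hs her hes hrs h3r h3s hηr hηs hle h2 hsum hrat g
  obtain ⟨hr2, hr3, hrq, -, -⟩ := prim_cond hr her h3r
  obtain ⟨hs2, hs3, hsq, -, -⟩ := prim_cond hs hes h3s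
  exact psp_nonadj (by omega) (by omega) hr hs hr2 hs2 hrs (natCast_ne_zero hr hrq) (natCast_ne_zero hs hsq) her hes
    hηr hηs hle hsum hrat g

theorem dv_psp {n : ℕ} : Dv (PSp n F) (Nat.card F) n := by
  have hq : Nat.card F = Fintype.card F := Nat.card_eq_fintype_card
  have hq1 : 1 < Nat.card F := Finite.one_lt_card
  intro r e η hr he h3 hη hle
  obtain ⟨hr2, hr3, hrq, -, -⟩ := prim_cond hr he h3
  have h1 : r ∣ Nat.card (Matrix.symplecticGroup (Fin n) F) := by
    rw [Cfsg.Agent.S0245.result (F := F) rfl n]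
    apply Dvd.dvd.mul_left
    rw [← hq]
    exact dvd_of_eta hq1.le he hη (hη.ne (by omega)) hle
  have := Fact.mk hr
  obtain ⟨y, hy⟩ := exists_prime_orderOf_dvd_card' r h1
  obtain ⟨x, hx⟩ := Lift.desc_odd _ (fun z hz => Cfsg.Agent.H376.SpEmb.center_pow z hz) (hr.odd_of_ne_two hr2) ⟨y, hy⟩
  rw [← hx]
  exact orderOf_dvd_natCard x

theorem na_odd {n : ℕ} (hn : 3 ≤ n) (hodd : Odd (Fintype.card F)) : NA (POmega F (quadFormOdd n F)) (Nat.card F) n := by
  have h2 := two_ne_zero_of_odd hodd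
  have hcard : Fintype.card (Unit ⊕ (Fin n ⊕ Fin n)) = 2 * n + 1 := by simp only [_root_.Fintype.card_sum, _root_.Fintype.card_unique, _root_.Fintype.card_fin]; ring
  have hD : Lift.Data (quadOdd n F) := data_of _ (quadOdd_nondegenerate h2) (by rw [hcard]; omega)
    (quadOdd_isotropic (by omega)) (Or.inr (by rw [hcard]; omega))
  rw [← coe_quadOdd]
  intro r s er es ηr ηs hr hs her hes hrs h3r h3s hηr hηs hle h2 hsum hrat g
  obtain ⟨hr2, hr3, hrq, -, -⟩ := prim_cond hr her h3r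
  obtain ⟨hs2, hs3, hsq, -, -⟩ := prim_cond hs hes h3s
  have h1 : 1 ≤ ηs := hηs.ne (by omega)
  exact pomega_nonadj hD hr hs hr2 hs2 hrs (natCast_ne_zero hr hrq) (natCast_ne_zero hs hsq) her hes hηr hηs h1 hle
    (by omega) (fun h => by
      have h4 : Nat.card F = Fintype.card F := Nat.card_eq_fintype_card
      have := h2 h
      omega) (by rw [hcard]; omega) hrat g

theorem dv_odd {n : ℕ} (hn : 3 ≤ n) (hodd : Odd (Fintype.card F)) : Dv (POmega F (quadFormOdd n F)) (Nat.card F) n := by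
  have hq : Nat.card F = Fintype.card F := Nat.card_eq_fintype_card
  have hq1 : 1 < Nat.card F := Finite.one_lt_card
  have hord := Cfsg.Agent.S0292.result (F := F) rfl hodd n hn
  intro r e η hr he h3 hη hle
  obtain ⟨hr2, hr3, hrq, -, -⟩ := prim_cond hr he h3
  have h3 : r ∣ 2 * Nat.card (POmega F (quadFormOdd n F)) := by
    rw [hord]
    apply Dvd.dvd.mul_left
    rw [← hq]
    exact dvd_of_eta hq1.le he hη (hη.ne (by omega)) hle
  rcases hr.dvd_mul.1 h3 with h4 | h4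
  · exact absurd ((Nat.prime_dvd_prime_iff_eq hr Nat.prime_two).1 h4) hr2
  · exact h4

theorem three_le_card (hodd : Odd (Fintype.card F)) : 3 ≤ Nat.card F := by
  have hq : Nat.card F = Fintype.card F := Nat.card_eq_fintype_card
  have hq1 : 1 < Nat.card F := Finite.one_lt_card
  rw [← hq] at hodd
  obtain ⟨c, hc⟩ := hodd
  omega

/-- **`PSp_{2n}(q)`, `n = 2 ^ k ≥ 8`, `q` odd.** -/
theorem isCoq_psp (hodd : Odd (Fintype.card F)) {k : ℕ} (hk : 3 ≤ k) {r0 r1 r2 r3 : ℕ}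
    (h : Cls (Fintype.card F) (2 ^ k) r0 r1 r2 r3) : IsCoq (PSp (2 ^ k) F) {r0, r1, r2, r3} := by
  have h8 : 8 ≤ 2 ^ k := Nat.pow_le_pow_right (n := 2) (by norm_num) hk
  have hq : Nat.card F = Fintype.card F := Nat.card_eq_fintype_card
  exact isCoq_of (three_le_card hodd) h8 (Nat.even_pow.2 ⟨even_two, by omega⟩) (na_psp' (by omega)) dv_psp
    (by rw [hq]; exact h)

/-- **`PΩ_{2n+1}(q)`, `n = 2 ^ k ≥ 8`, `q` odd.** -/
theorem isCoq_odd (hodd : Odd (Fintype.card F)) {k : ℕ} (hk : 3 ≤ k) {r0 r1 r2 r3 : ℕ}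
    (h : Cls (Fintype.card F) (2 ^ k) r0 r1 r2 r3) : IsCoq (POmega F (quadFormOdd (2 ^ k) F)) {r0, r1, r2, r3} := by
  have h8 : 8 ≤ 2 ^ k := Nat.pow_le_pow_right (n := 2) (by norm_num) hk
  have hq : Nat.card F = Fintype.card F := Nat.card_eq_fintype_card
  exact isCoq_of (three_le_card hodd) h8 (Nat.even_pow.2 ⟨even_two, by omega⟩) (na_odd (by omega) hodd)
    (dv_odd (by omega) hodd) (by rw [hq]; exact h)

end groups

/-! ### the class of the prime divisors of `mn q k` -/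

/-- the odd primes of class `2n` are the prime divisors of `mn q k = (q ^ n + 1) / 2` -/
theorem order_iff {q k r : ℕ} (hq : Odd q) (hk : 2 ≤ k) (hr : r.Prime) (hr2 : r ≠ 2) :
    orderOf (q : ZMod r) = 2 * 2 ^ k ↔ r ∣ mn q k := by
  have := Fact.mk hr
  have h2 := Cfsg.Agent.H202.TP.two_mn hk hq
  have hcop : Nat.Coprime r 2 := (Nat.coprime_primes hr Nat.prime_two).2 hr2
  have h3 : r ∣ mn q k ↔ (q : ZMod r) ^ 2 ^ k = -1 := by
    have h4 : r ∣ mn q k ↔ r ∣ q ^ 2 ^ k + 1 := by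
      rw [← h2]
      exact ⟨fun h => h.mul_left 2, fun h => hcop.dvd_of_dvd_mul_left h⟩
    rw [h4, ← ZMod.natCast_eq_zero_iff]
    push_cast
    exact ⟨fun h => by linear_combination h, fun h => by linear_combination h⟩
  have hne : (1 : ZMod r) ≠ -1 := by
    intro h
    have h4 : ((2 : ℕ) : ZMod r) = 0 := by
      push_cast
      linear_combination h
    rw [ZMod.natCast_eq_zero_iff] at h4
    exact hr2 ((Nat.prime_dvd_prime_iff_eq hr Nat.prime_two).1 h4)
  rw [h3]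
  constructor
  · intro h
    have h4 : ((q : ZMod r) ^ 2 ^ k) ^ 2 = 1 := by
      rw [← pow_mul, mul_comm, ← h]
      exact pow_orderOf_eq_one _
    have h4' : ((q : ZMod r) ^ 2 ^ k - 1) * ((q : ZMod r) ^ 2 ^ k + 1) = 0 := by linear_combination h4
    rcases mul_eq_zero.1 h4' with h5 | h5
    · exfalso
      have h6 := orderOf_dvd_of_pow_eq_one (sub_eq_zero.1 h5)
      rw [h] at h6
      have h7 := Nat.le_of_dvd (by positivity) h6
      have h8 : 0 < 2 ^ k := by positivity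
      omega
    · exact eq_neg_of_add_eq_zero_left h5
  · intro h
    have h4 : ¬ (q : ZMod r) ^ 2 ^ k = 1 := by
      rw [h]
      exact hne.symm
    have h5 : (q : ZMod r) ^ 2 ^ (k + 1) = 1 := by
      rw [pow_succ, pow_mul, h]
      ring
    rw [orderOf_eq_prime_pow h4 h5, pow_succ, mul_comm]

/-- a prime of class different from `2n` does not divide `mn q k` -/
theorem not_dvd_mn {q k r e : ℕ} (hq : Odd q) (hk : 3 ≤ k) (hr : r.Prime) (he : orderOf (q : ZMod r) = e) (h3 : 3 ≤ e)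
    (hne : e ≠ 2 * 2 ^ k) : ¬ r ∣ mn q k := by
  obtain ⟨hr2, -, -, -, -⟩ := prim_cond hr he h3
  intro h
  rw [← order_iff hq (by omega) hr hr2] at h
  omega

section final

variable {F : Type*} [Field F] [Fintype F]

end final

end Cfsg.Agent.H164.PCoc
end

-- part: H164/TPGk
section
/-!
# S3536: the structure `GK` for `PSp_{2n}(q)` and `PΩ_{2n+1}(q)`, `n = 2 ^ k ≥ 8` (helper164)
-/

set_option autoImplicit false
set_option linter.unusedSectionVars false

namespace Cfsg.Agent.H164.TPGk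

open Cfsg.Agent.H420.QR (IsCoq)
open Cfsg.Agent.H202.TP Cfsg.Agent.H164.PCoc Cfsg.Agent.H377

theorem coq_of {G : Type*} [Group G] {q k : ℕ} (hq : Odd q) (h3 : 3 ≤ q) (hk : 3 ≤ k)
    (hc : ∀ r0 r1 r2 r3 : ℕ, Cls q (2 ^ k) r0 r1 r2 r3 → IsCoq G {r0, r1, r2, r3}) (r : ℕ) (hr : r.Prime)
    (hrm : r ∣ mn q k) : ∃ ρ : Finset ℕ, IsCoq G ρ ∧ 4 ≤ ρ.card ∧ r ∈ ρ ∧ (∀ s ∈ ρ, 7 < s) ∧
    ∀ s ∈ ρ, s ≠ r → ¬ s ∣ mn q k := by
  have h8 : 8 ≤ 2 ^ k := Nat.pow_le_pow_right (n := 2) (by norm_num) hk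
  have hr2 : r ≠ 2 := by
    rintro rfl
    have h1 := Cfsg.Agent.H202.TP.mn_eq (by omega : 2 ≤ k) q
    have h2 := Cfsg.Agent.H202.T.mm_mod (hq.pow (n := 2 ^ (k - 2)))
    rw [h1] at hrm
    omega
  obtain ⟨r0, r1, r2, r3, h⟩ := exists_cls h3 h8
  have h' : Cls q (2 ^ k) r r1 r2 r3 :=
    ⟨hr, h.p1, h.p2, h.p3, (order_iff hq (by omega) hr hr2).2 hrm, h.e1, h.e2, h.e3⟩
  refine ⟨{r, r1, r2, r3}, hc _ _ _ _ h', (h'.card h8).ge, by simp, ?_, ?_⟩
  · intro s hs
    have g0 := h'.ge0 h8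
    have g1 := h'.ge1 h8
    have g2 := h'.ge2 h8
    have g3 := h'.ge3 h8
    simp only [Finset.mem_insert, Finset.mem_singleton] at hs
    rcases hs with rfl | rfl | rfl | rfl <;> omega
  · intro s hs hsr
    simp only [Finset.mem_insert, Finset.mem_singleton] at hs
    rcases hs with rfl | rfl | rfl | rfl
    · exact absurd rfl hsr
    · exact not_dvd_mn hq hk h'.p1 h'.e1 (by omega) (by omega)
    · exact not_dvd_mn hq hk h'.p2 h'.e2 (by omega) (by omega)
    · exact not_dvd_mn hq hk h'.p3 h'.e3 (by omega) (by omega)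

section

variable {F : Type*} [Field F] [Fintype F] {p a k : ℕ}

/-- `GK` for `PSp_{2n}(q)` -/
theorem gk_psp (hp : p.Prime) (hp2 : p ≠ 2) (ha : Odd a) (hF : Fintype.card F = p ^ a) (hk : 3 ≤ k) :
    GK p (Fintype.card F) k (Cfsg.PSp (2 ^ k) F) := by
  obtain ⟨h1, h2, h3, h4⟩ := Cfsg.Agent.H189.TP.setup hp hp2 ha hF
  have h8 : 8 ≤ 2 ^ k := Nat.pow_le_pow_right (n := 2) (by norm_num) hk
  refine ⟨hp, hp2, ⟨a, ha, hF⟩, hk, ?_, ?_, ?_, ?_, ?_, ?_⟩
  · refine exists_psp_tor_minus (by omega) (by have := mn_ge (q := Fintype.card F) hk h3; omega) (Or.inr ?_)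
    rw [Nat.card_eq_fintype_card, two_mn (by omega) h1]
  · exact fun r x hr hrm hrx => Cfsg.Agent.H76.TP.Sp.iso hp hp2 hF (by omega) x hr hrm hrx
  · exact fun j x hj => Cfsg.Agent.H76.TP.Sp.two hp hp2 hF (by omega) x hj
  · exact fun x hx => Cfsg.Agent.H76.TP.Sp.tor hp hp2 hF (by omega) x hx
  · exact fun r hr hrd => Cfsg.Agent.H76.TP.Sp.pr hp hF hr hrd
  · exact coq_of h1 h3 hk fun r0 r1 r2 r3 h => isCoq_psp h1 hk h

/-- `GK` for `PΩ_{2n+1}(q)` -/
theorem gk_odd (hp : p.Prime) (hp2 : p ≠ 2) (ha : Odd a) (hF : Fintype.card F = p ^ a) (hk : 3 ≤ k) :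
    GK p (Fintype.card F) k (Cfsg.POmega F (Cfsg.quadFormOdd (2 ^ k) F)) := by
  obtain ⟨h1, h2, h3, h4⟩ := Cfsg.Agent.H189.TP.setup hp hp2 ha hF
  have h8 : 8 ≤ 2 ^ k := Nat.pow_le_pow_right (n := 2) (by norm_num) hk
  refine ⟨hp, hp2, ⟨a, ha, hF⟩, hk, ?_, ?_, ?_, ?_, ?_, ?_⟩
  · refine OOdd.exists_even_tor (by rwa [Nat.card_eq_fintype_card]) (by omega) (ε := -1) (elt_tor_minus (by omega) ?_)
    rw [Nat.card_eq_fintype_card, two_mn (by omega) h1]
  · exact fun r x hr hrm hrx => Cfsg.Agent.H189.TP.omega_iso hp hp2 ha hF hk x r hr hrm hrx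
  · exact fun j x hj => Cfsg.Agent.H189.TP.omega_two hp hp2 ha hF hk x j hj
  · exact fun x hx => Cfsg.Agent.H189.TP.omega_tor hp hp2 ha hF hk x hx
  · exact fun r hr hrd => Cfsg.Agent.H189.TP.omega_pr hp hp2 ha hF hk r hr hrd
  · exact coq_of h1 h3 hk fun r0 r1 r2 r3 h => isCoq_odd h1 hk h

end

end Cfsg.Agent.H164.TPGk
end
end
end
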